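import Cfsg.Agent.Lib.USixType.Weak

/-!
# An involution whose centraliser has a part of index at most two over `SU₄(2)`

`Half z F` gives a subgroup `C0` of the centraliser with a natural model; the whole centraliser acts on the chart
by additive maps keeping the quadratic form, and every element maps lines of isotropic points to lines.
-/

set_option autoImplicit false
set_option linter.unusedSectionVars false

namespace CfsgLib.USixOuter

open Cfsg CfsgLib.SURadical CfsgLib.LargeExtra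
open CfsgLib.USixType (Cz Model Flag exists_flag)
open CfsgLib.PSUAut (Isot act act_mul act_one act_form act_smul act_add act_ext)

variable {G : Type*} [Group G] [Finite G]

/-- The data at the part of index two. -/
structure Half (z : G) (F : Type) [Field F] [Fintype F] where
  /-- The part. -/
  C0 : Subgroup G
  le : C0 ≤ Cz z
  hz : z ∈ C0
  norm : ∀ c ∈ Cz z, ∀ x ∈ C0, c * x * c⁻¹ ∈ C0
  /-- The natural model of the part. -/
  m : Model (⟨z, hz⟩ : ↥C0) F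
  normJ : ∀ c ∈ Cz z, ∀ x ∈ m.J.map C0.subtype, c * x * c⁻¹ ∈ m.J.map C0.subtype
  faithful : ∀ c ∈ Cz z, (∀ x ∈ m.J.map C0.subtype, c * x * c⁻¹ = x ∨ c * x * c⁻¹ = x * z) →
    c ∈ m.J.map C0.subtype
  extra : IsExtraspecial 2 ↥(m.J.map C0.subtype)
  centre : (Subgroup.center ↥(m.J.map C0.subtype)).map (m.J.map C0.subtype).subtype = Subgroup.zpowers z
  self : Subgroup.centralizer ((m.J.map C0.subtype : Subgroup G) : Set G) =
    (Subgroup.center ↥(m.J.map C0.subtype)).map (m.J.map C0.subtype).subtype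

namespace Half

variable {F : Type} [Field F] [Fintype F] {z : G} (H : Half z F)
include H

local notation "hh" => Cfsg.hermForm 4 F 2

/-- The radical. -/
def J : Subgroup G := H.m.J.map H.C0.subtype

/-- An element of the kernel in the group. -/
def val (k : ↥(MonoidHom.ker H.m.ρ)) : G := (((k : ↥(Cz (⟨z, H.hz⟩ : ↥H.C0))) : ↥H.C0) : G)

theorem val_mul (a b : ↥(MonoidHom.ker H.m.ρ)) : H.val (a * b) = H.val a * H.val b := rfl

theorem val_inj {a b : ↥(MonoidHom.ker H.m.ρ)} (h : H.val a = H.val b) : a = b :=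
  Subtype.ext (Subtype.ext (Subtype.ext h))

theorem val_mem (k : ↥(MonoidHom.ker H.m.ρ)) : H.val k ∈ H.J := ⟨_, ⟨_, k.2, rfl⟩, rfl⟩

theorem exists_val {a : G} (ha : a ∈ H.J) : ∃ k, H.val k = a := by
  obtain ⟨_, ⟨x, hx, rfl⟩, rfl⟩ := ha
  exact ⟨⟨x, hx⟩, rfl⟩

theorem J_le : H.J ≤ H.C0 := Subgroup.map_subtype_le _

open scoped _root_.Classical in
/-- The chart. -/
noncomputable def cv (a : G) : Fin 4 → F := if h : ∃ k, H.val k = a then H.m.χ h.choose else 0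

theorem cv_val (k : ↥(MonoidHom.ker H.m.ρ)) : H.cv (H.val k) = H.m.χ k := by
  have h : ∃ k', H.val k' = H.val k := ⟨k, rfl⟩
  rw [cv, dif_pos h, H.val_inj h.choose_spec]

theorem hF : Fintype.card F = 2 ^ 2 := H.m.hF

theorem zz : z * z = 1 := congrArg Subtype.val H.m.zz

theorem z_ne : z ≠ 1 := fun h => H.m.z_ne (Subtype.ext h)

theorem orderOf_z : orderOf z = 2 := by rw [← Subgroup.orderOf_mk (ha := H.hz), H.m.ord]

theorem z_mem : z ∈ H.J := by
  obtain ⟨k, hk⟩ := H.m.exists_z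
  have : H.val k = z := congrArg Subtype.val hk
  have hk' := H.val_mem k
  rwa [this] at hk'

theorem cv_mul {a b : G} (ha : a ∈ H.J) (hb : b ∈ H.J) : H.cv (a * b) = H.cv a + H.cv b := by
  obtain ⟨k, rfl⟩ := H.exists_val ha
  obtain ⟨l, rfl⟩ := H.exists_val hb
  rw [← H.val_mul, H.cv_val, H.cv_val, H.cv_val, H.m.χ_mul]

theorem cv_eq_zero {a : G} (ha : a ∈ H.J) : H.cv a = 0 ↔ a = 1 ∨ a = z := by
  obtain ⟨k, rfl⟩ := H.exists_val ha
  rw [H.cv_val, H.m.χ_ker]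
  exact or_congr ⟨fun h => congrArg Subtype.val h, fun h => Subtype.ext h⟩
    ⟨fun h => congrArg Subtype.val h, fun h => Subtype.ext h⟩

theorem cv_eq {a b : G} (ha : a ∈ H.J) (hb : b ∈ H.J) (h : H.cv a = H.cv b) : a = b ∨ a = b * z := by
  obtain ⟨k, rfl⟩ := H.exists_val ha
  obtain ⟨l, rfl⟩ := H.exists_val hb
  rw [H.cv_val, H.cv_val] at h
  rcases H.m.χ_eq h with e | e
  · exact .inl (congrArg Subtype.val e)
  · exact .inr (congrArg Subtype.val e)

theorem cv_surj (v : Fin 4 → F) : ∃ a ∈ H.J, H.cv a = v := by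
  obtain ⟨k, rfl⟩ := H.m.χ_surj v
  exact ⟨_, H.val_mem k, H.cv_val k⟩

theorem cv_sq {a : G} (ha : a ∈ H.J) : hh (H.cv a) (H.cv a) = 0 ↔ a * a = 1 := by
  obtain ⟨k, rfl⟩ := H.exists_val ha
  rw [H.cv_val, H.m.χ_sq, ← H.val_mul]
  exact ⟨fun h => by rw [h]; rfl, fun h => H.val_inj h⟩

theorem cv_comm {a b : G} (ha : a ∈ H.J) (hb : b ∈ H.J) :
    hh (H.cv a) (H.cv b) + hh (H.cv a) (H.cv b) ^ 2 = 0 ↔ a * b = b * a := by
  obtain ⟨k, rfl⟩ := H.exists_val ha
  obtain ⟨l, rfl⟩ := H.exists_val hb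
  rw [H.cv_val, H.cv_val, ← H.val_mul, ← H.val_mul]
  exact ⟨fun h => congrArg H.val (H.m.comm_of_tr h), fun h => H.m.tr_of_comm (H.val_inj h)⟩

/-- The action of the part. -/
def ρ0 : ↥H.C0 →* ↥(Cfsg.SU 4 F 2) :=
  H.m.ρ.comp
    { toFun := fun c => ⟨c, Subgroup.mem_centralizer_singleton_iff.2
        (Subtype.ext (Subgroup.mem_centralizer_singleton_iff.1 (H.le c.2)))⟩
      map_one' := rfl
      map_mul' := fun _ _ => rfl }

theorem ρ0_surj : Function.Surjective H.ρ0 := fun T => by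
  obtain ⟨c, rfl⟩ := H.m.surj T
  exact ⟨c, rfl⟩

theorem ρ0_eq_one {c : ↥H.C0} : H.ρ0 c = 1 ↔ (c : G) ∈ H.J :=
  ⟨fun h => ⟨_, ⟨_, h, rfl⟩, rfl⟩, fun h => by
    obtain ⟨k, hk⟩ := H.exists_val h
    have e : c = ((k : ↥(Cz (⟨z, H.hz⟩ : ↥H.C0))) : ↥H.C0) := Subtype.ext hk.symm
    subst e
    exact k.2⟩

theorem cv_conj0 (c : ↥H.C0) {a : G} (ha : a ∈ H.J) :
    H.cv ((c : G) * a * (c : G)⁻¹) = act (H.ρ0 c) (H.cv a) := by
  obtain ⟨k, rfl⟩ := H.exists_val ha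
  rw [H.cv_val]
  refine Eq.trans ?_ (H.m.χ_equiv _ k)
  rw [← H.cv_val]
  rfl

theorem conj_mem {c a : G} (hc : c ∈ Cz z) (ha : a ∈ H.J) : c * a * c⁻¹ ∈ H.J := H.normJ c hc a ha

/-- The action of the whole centraliser on the chart. -/
noncomputable def tw (c : G) (v : Fin 4 → F) : Fin 4 → F := H.cv (c * (H.cv_surj v).choose * c⁻¹)

variable {c : G} (hc : c ∈ Cz z)
include hc

theorem tw_cv {a : G} (ha : a ∈ H.J) : H.tw c (H.cv a) = H.cv (c * a * c⁻¹) := by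
  obtain ⟨hb, e⟩ := (H.cv_surj (H.cv a)).choose_spec
  unfold tw
  generalize (H.cv_surj (H.cv a)).choose = b at hb e ⊢
  rcases H.cv_eq hb ha e with h | h
  · rw [h]
  · have hzc : c * z * c⁻¹ = z := by
      rw [Subgroup.mem_centralizer_singleton_iff.1 hc, mul_inv_cancel_right]
    rw [h, show c * (a * z) * c⁻¹ = c * a * c⁻¹ * (c * z * c⁻¹) by group, hzc,
      H.cv_mul (H.conj_mem hc ha) H.z_mem, (H.cv_eq_zero H.z_mem).2 (.inr rfl), add_zero]

theorem tw_add (u v : Fin 4 → F) : H.tw c (u + v) = H.tw c u + H.tw c v := by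
  obtain ⟨a, ha, rfl⟩ := H.cv_surj u
  obtain ⟨b, hb, rfl⟩ := H.cv_surj v
  rw [← H.cv_mul ha hb, H.tw_cv hc (mul_mem ha hb), H.tw_cv hc ha, H.tw_cv hc hb,
    ← H.cv_mul (H.conj_mem hc ha) (H.conj_mem hc hb)]
  congr 1
  group

theorem tw_zero : H.tw c 0 = 0 := by
  have h := H.tw_add hc 0 0
  rw [add_zero] at h
  exact left_eq_add.1 h

theorem tw_tw {d : G} (hd : d ∈ Cz z) (v : Fin 4 → F) : H.tw c (H.tw d v) = H.tw (c * d) v := by
  obtain ⟨a, ha, rfl⟩ := H.cv_surj v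
  rw [H.tw_cv hd ha, H.tw_cv hc (H.conj_mem hd ha), H.tw_cv (mul_mem hc hd) ha]
  congr 1
  group

theorem tw_inv_tw (v : Fin 4 → F) : H.tw c⁻¹ (H.tw c v) = v := by
  rw [H.tw_tw (inv_mem hc) hc, inv_mul_cancel]
  obtain ⟨a, ha, rfl⟩ := H.cv_surj v
  rw [H.tw_cv (one_mem _) ha, one_mul, inv_one, mul_one]

theorem tw_tw_inv (v : Fin 4 → F) : H.tw c (H.tw c⁻¹ v) = v := by
  simpa only [inv_inv] using H.tw_inv_tw (inv_mem hc) v

theorem tw_inj {u v : Fin 4 → F} (h : H.tw c u = H.tw c v) : u = v := by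
  rw [← H.tw_inv_tw hc u, h, H.tw_inv_tw hc]

theorem tw_norm (v : Fin 4 → F) : hh (H.tw c v) (H.tw c v) = hh v v := by
  obtain ⟨a, ha, rfl⟩ := H.cv_surj v
  rw [H.tw_cv hc ha]
  have e : c * a * c⁻¹ * (c * a * c⁻¹) = c * (a * a) * c⁻¹ := by group
  have key : hh (H.cv (c * a * c⁻¹)) (H.cv (c * a * c⁻¹)) = 0 ↔ hh (H.cv a) (H.cv a) = 0 := by
    rw [H.cv_sq (H.conj_mem hc ha), H.cv_sq ha, e, conj_eq_one_iff]
  rcases norm_zero_or_one H.hF (H.cv (c * a * c⁻¹)) with h1 | h1 <;>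
    rcases norm_zero_or_one H.hF (H.cv a) with h2 | h2
  · rw [h1, h2]
  · rw [key.1 h1] at h2; exact absurd h2 zero_ne_one
  · rw [key.2 h2] at h1; exact absurd h1 zero_ne_one
  · rw [h1, h2]

theorem tw_tr (u v : Fin 4 → F) :
    hh (H.tw c u) (H.tw c v) + hh (H.tw c u) (H.tw c v) ^ 2 = 0 ↔ hh u v + hh u v ^ 2 = 0 := by
  obtain ⟨a, ha, rfl⟩ := H.cv_surj u
  obtain ⟨b, hb, rfl⟩ := H.cv_surj v
  rw [H.tw_cv hc ha, H.tw_cv hc hb, H.cv_comm (H.conj_mem hc ha) (H.conj_mem hc hb), H.cv_comm ha hb]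
  rw [show c * a * c⁻¹ * (c * b * c⁻¹) = c * (a * b) * c⁻¹ by group,
    show c * b * c⁻¹ * (c * a * c⁻¹) = c * (b * a) * c⁻¹ by group]
  exact ⟨fun h => mul_left_cancel (mul_right_cancel h), fun h => by rw [h]⟩

omit hc in
theorem tw_zero_one (c0 : ↥H.C0) (v : Fin 4 → F) : H.tw (c0 : G) v = act (H.ρ0 c0) v := by
  obtain ⟨a, ha, rfl⟩ := H.cv_surj v
  rw [H.tw_cv (H.le c0.2) ha, H.cv_conj0 c0 ha]

/-- The conjugate of a transvection. -/
theorem act_conj {x : ↥H.C0} (v : Fin 4 → F) :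
    act (H.ρ0 ⟨c * x * c⁻¹, H.norm c hc x x.2⟩) (H.tw c v) = H.tw c (act (H.ρ0 x) v) := by
  rw [← H.tw_zero_one, ← H.tw_zero_one, H.tw_tw (H.le (H.norm c hc x x.2)) hc, H.tw_tw hc (H.le x.2)]
  congr 1
  group

/-- Lines of isotropic points go to lines. -/
theorem tw_line {p : Fin 4 → F} (hp : Isot 2 p) (l : F) : ∃ μ : F, H.tw c (μ • p) = l • H.tw c p := by
  obtain ⟨σ, hσ⟩ := exists_sigma H.hF
  obtain ⟨u, hu⟩ := CfsgLib.PSUAut.exists_partner H.hF hσ hp.1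
  obtain ⟨t, ht⟩ := exists_pt H.hF hp
  obtain ⟨x, hx⟩ := H.ρ0_surj t
  set T := H.ρ0 ⟨c * x * c⁻¹, H.norm c hc x x.2⟩
  have hT : ∀ v, act T (H.tw c v) = H.tw c v + H.tw c (hh v p • p) := fun v => by
    rw [← H.tw_add hc, ← ht.2 v, ← hx]
    exact H.act_conj hc v
  refine ⟨hh (H.tw c⁻¹ (l • H.tw c u)) p, ?_⟩
  have h1 := hT (H.tw c⁻¹ (l • H.tw c u))
  rw [H.tw_tw_inv hc, act_smul, hT u, hu, one_smul, smul_add] at h1
  exact (add_left_cancel h1).symm

theorem tw_perp {p : Fin 4 → F} (hp : Isot 2 p) (y : Fin 4 → F) :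
    hh (H.tw c y) (H.tw c p) = 0 ↔ hh y p = 0 := by
  obtain ⟨w, hw0, hw1⟩ := exists_omega' H.hF
  have hzero : ∀ a : F, (∀ l : F, l * a + (l * a) ^ 2 = 0) → a = 0 := fun a h => by
    by_contra ha
    have h2 := h (w * a⁻¹)
    rw [mul_assoc, inv_mul_cancel₀ ha, mul_one] at h2
    exact one_ne_zero (α := F) (by linear_combination hw1 - h2)
  constructor
  · intro h
    refine hzero _ fun l => ?_
    -- every multiple of `p` goes to a multiple
    have hsurj : Function.Surjective fun k : F => Classical.choose (H.tw_line hc hp k) := by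
      refine Finite.injective_iff_surjective.1 fun k k' e => ?_
      have e1 := Classical.choose_spec (H.tw_line hc hp k)
      have e2 := Classical.choose_spec (H.tw_line hc hp k')
      rw [show Classical.choose (H.tw_line hc hp k) = Classical.choose (H.tw_line hc hp k') from e, e2] at e1
      have hne : H.tw c p ≠ 0 := fun e0 => hp.1 (H.tw_inj hc (e0.trans (H.tw_zero hc).symm))
      have h0 : (k' - k) • H.tw c p = 0 := by rw [sub_smul, e1, sub_self]
      exact (sub_eq_zero.1 ((smul_eq_zero.1 h0).resolve_right hne)).symm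
    obtain ⟨k', hk'⟩ := hsurj (l ^ 2)
    have e := Classical.choose_spec (H.tw_line hc hp k')
    simp only at hk'
    rw [hk'] at e
    have h3 := (H.tw_tr hc y (l ^ 2 • p)).1 (by rw [e, smul_right H.hF, h, mul_zero]; simp)
    rw [smul_right H.hF] at h3
    rcases eq_or_ne l 0 with rfl | hl
    · simp
    · rwa [show (l ^ 2) ^ 2 = l by linear_combination l * cube_eq_one H.hF hl] at h3
  · intro h
    refine hzero _ fun l => ?_
    obtain ⟨μ, hμ⟩ := H.tw_line hc hp (l ^ 2)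
    have h3 := (H.tw_tr hc y (μ • p)).2 (by rw [smul_right H.hF, h, mul_zero]; simp)
    rw [hμ, smul_right H.hF] at h3
    rcases eq_or_ne l 0 with rfl | hl
    · simp
    · rwa [show (l ^ 2) ^ 2 = l by linear_combination l * cube_eq_one H.hF hl] at h3

theorem tw_isot {p : Fin 4 → F} (hp : Isot 2 p) : Isot 2 (H.tw c p) :=
  ⟨fun e => hp.1 (H.tw_inj hc (e.trans (H.tw_zero hc).symm)), by rw [H.tw_norm hc, hp.2]⟩

/-- The conjugate of a transvection is the transvection at the image. -/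
theorem tw_pt {p : Fin 4 → F} {x : ↥H.C0} (hx : IsPt (H.ρ0 x) p) :
    IsPt (H.ρ0 ⟨c * x * c⁻¹, H.norm c hc x x.2⟩) (H.tw c p) := by
  obtain ⟨σ, hσ⟩ := exists_sigma H.hF
  obtain ⟨p', q', f⟩ := exists_flag H.hF (H.tw_isot hc hx.1)
  set T := H.ρ0 ⟨c * x * c⁻¹, H.norm c hc x x.2⟩ with hT
  refine (f.eq_or_isPt H.hF (H.tw_isot hc hx.1).1 (g := T) fun y hy => ?_).resolve_left fun e => ?_
  · rw [← H.tw_tw_inv hc y] at hy ⊢
    rw [hT, H.act_conj hc, hx.act_of_perp ((H.tw_perp hc hx.1 _).1 hy)]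
  · obtain ⟨u, hu⟩ := CfsgLib.PSUAut.exists_partner H.hF hσ hx.1.1
    have h1 := H.act_conj hc (x := x) u
    rw [← hT, e, act_one, hx.2, hu, one_smul] at h1
    exact hx.1.1 (left_eq_add.1 (H.tw_inj hc h1))

end Half

end CfsgLib.USixOuter
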