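import Cfsg.Agent.Lib.InvolChar.LargeExtraInvolution

/-!
# Conjugates of the central involution lie in every part of index two containing the radical

Let `z` be weakly closed in a large extraspecial `E` and `χ` a character of order two of `C(z)` trivial on `E`.
The transfer of `χ` is a homomorphism of the whole group with the value of `χ` at the involutions of `C(z)`,
so it has the same value at conjugate ones.
-/

set_option autoImplicit false
set_option linter.unusedSectionVars false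
set_option linter.style.haveILetI false

namespace CfsgLib.USixOuter

open Subgroup CfsgLib.InvolChar.OrbitTransfer CfsgLib.InvolChar.LargeExtraWeak

variable {G : Type*} [Group G] [Finite G]

theorem kappa_mul {H : Subgroup G} {χ : G → ZMod 2} (hχ : Additive' H χ) {r : G ⧸ H → G}
    (hr : ∀ c, (r c : G ⧸ H) = c) (a b : G) (c : G ⧸ H) :
    kappa χ r (a * b) c = kappa χ r a (b • c) + kappa χ r b c := by
  have e : (r ((a * b) • c))⁻¹ * (a * b) * r c =
      ((r (a • b • c))⁻¹ * a * r (b • c)) * ((r (b • c))⁻¹ * b * r c) := by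
    rw [mul_smul]; group
  rw [kappa, e, hχ _ (mem_kappa hr a (b • c)) _ (mem_kappa hr b c)]
  rfl

theorem sum_kappa_mul {H : Subgroup G} [Fintype (G ⧸ H)] {χ : G → ZMod 2} (hχ : Additive' H χ) {r : G ⧸ H → G}
    (hr : ∀ c, (r c : G ⧸ H) = c) (a b : G) :
    ∑ c, kappa χ r (a * b) c = (∑ c, kappa χ r a c) + ∑ c, kappa χ r b c := by
  rw [← Equiv.sum_comp (MulAction.toPerm b) (fun c => kappa χ r a c), ← Finset.sum_add_distrib]
  exact Finset.sum_congr rfl fun c _ => kappa_mul hχ hr a b c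

/-- The transfer does not depend on the representatives. -/
theorem sum_kappa_indep {H : Subgroup G} [Fintype (G ⧸ H)] {χ : G → ZMod 2} (hχ : Additive' H χ)
    {r r' : G ⧸ H → G} (hr : ∀ c, (r c : G ⧸ H) = c) (hr' : ∀ c, (r' c : G ⧸ H) = c) (x : G) :
    ∑ c, kappa χ r' x c = ∑ c, kappa χ r x c := by
  have hd : ∀ c, (r c)⁻¹ * r' c ∈ H := fun c => QuotientGroup.eq.1 ((hr c).trans (hr' c).symm)
  have e : ∀ c, kappa χ r' x c = χ ((r (x • c))⁻¹ * r' (x • c)) + kappa χ r x c + χ ((r c)⁻¹ * r' c) := fun c => by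
    have e1 : (r' (x • c))⁻¹ * x * r' c =
        ((r (x • c))⁻¹ * r' (x • c))⁻¹ * ((r (x • c))⁻¹ * x * r c) * ((r c)⁻¹ * r' c) := by group
    rw [kappa, e1, hχ _ (mul_mem (inv_mem (hd _)) (mem_kappa hr x c)) _ (hd c),
      hχ _ (inv_mem (hd _)) _ (mem_kappa hr x c), map_inv' hχ (hd _)]
    rfl
  rw [Finset.sum_congr rfl fun c _ => e c, Finset.sum_add_distrib, Finset.sum_add_distrib,
    show (∑ c, χ ((r (x • c))⁻¹ * r' (x • c))) = ∑ c, χ ((r c)⁻¹ * r' c) from
      Equiv.sum_comp (MulAction.toPerm x) fun c => χ ((r c)⁻¹ * r' c)]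
  generalize (∑ c, χ ((r c)⁻¹ * r' c)) = u
  generalize (∑ c, kappa χ r x c) = v
  revert u v
  decide

/-- Conjugates of `z` in the centraliser lie in the part of index two. -/
theorem conj_mem_part {z : G} {E K : Subgroup G} (b : Hyp z E) (hn : 128 ≤ Nat.card E) (hEK : E ≤ K)
    (hKi : K.relIndex (centralizer ({z} : Set G)) = 2) {g : G}
    (hg : g * z * g⁻¹ ∈ centralizer ({z} : Set G)) : g * z * g⁻¹ ∈ K := by
  classical
  set H := centralizer ({z} : Set G) with hH
  haveI := Fintype.ofFinite (G ⧸ H)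
  let χ : G → ZMod 2 := fun g => if g ∈ K then 0 else 1
  have hidx : (K.subgroupOf H).index = 2 := hKi
  have hχ : Additive' H χ := by
    intro a ha c hc
    have h1 := mul_mem_iff_of_index_two hidx (a := ⟨a, ha⟩) (b := ⟨c, hc⟩)
    simp only [mem_subgroupOf, Subgroup.coe_mul] at h1
    simp only [χ]
    by_cases h2 : a ∈ K <;> by_cases h3 : c ∈ K <;> simp [h1, h2, h3, show (1 : ZMod 2) + 1 = 0 from rfl]
  have hE0 : ∀ e ∈ E, χ e = 0 := fun e he => if_pos (hEK he)
  have hzH : z ∈ H := mem_centralizer_singleton_iff.2 rfl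
  set u := g * z * g⁻¹ with hu
  have huu : u * u = 1 := by
    rw [hu, show g * z * g⁻¹ * (g * z * g⁻¹) = g * (z * z) * g⁻¹ by group, b.hzz]; group
  obtain ⟨r, hr, h1⟩ := involution_eq b hn hχ hE0 hzH b.hzz
  obtain ⟨r', hr', h2⟩ := involution_eq b hn hχ hE0 hg huu
  rw [sum_kappa_indep hχ hr hr'] at h2
  have h3 : ∑ c, kappa χ r u c = ∑ c, kappa χ r z c := by
    have e : (∑ c, kappa χ r (g * z) c) = ∑ c, kappa χ r (u * g) c := by rw [hu, inv_mul_cancel_right]
    rw [sum_kappa_mul hχ hr, sum_kappa_mul hχ hr, add_comm (∑ c, kappa χ r g c)] at e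
    exact (add_right_cancel e).symm
  rw [h2, h1, show χ z = 0 from if_pos (hEK b.z_mem)] at h3
  by_contra hK
  rw [show χ u = 1 from if_neg hK] at h3
  exact one_ne_zero h3

/-- A part of index two containing the radical is cut out by a subgroup of index two. -/
theorem exists_index_two {z : G} {E K : Subgroup G} (b : Hyp z E) (hn : 128 ≤ Nat.card E) (hEK : E ≤ K)
    (hKH : K ≤ centralizer ({z} : Set G)) (hKi : K.relIndex (centralizer ({z} : Set G)) = 2) :
    ∃ R : Subgroup G, R.Normal ∧ R.index = 2 ∧ z ∈ R ∧ R ⊓ centralizer ({z} : Set G) = K := by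
  classical
  set H := centralizer ({z} : Set G) with hH
  haveI := Fintype.ofFinite (G ⧸ H)
  let χ : G → ZMod 2 := fun g => if g ∈ K then 0 else 1
  have hidx : (K.subgroupOf H).index = 2 := hKi
  have hχ : Additive' H χ := by
    intro a ha c hc
    have h1 := mul_mem_iff_of_index_two hidx (a := ⟨a, ha⟩) (b := ⟨c, hc⟩)
    simp only [mem_subgroupOf, Subgroup.coe_mul] at h1
    simp only [χ]
    by_cases h2 : a ∈ K <;> by_cases h3 : c ∈ K <;> simp [h1, h2, h3, show (1 : ZMod 2) + 1 = 0 from rfl]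
  have hcosmem : ∀ c : G ⧸ H, CfsgLib.InvolChar.LargeExtraChar.cj z c ∈ H → c.out⁻¹ * z * c.out ∈ H := fun c hc => by
    have h1 : c.out * z * c.out⁻¹ * z = z * (c.out * z * c.out⁻¹) := mem_centralizer_singleton_iff.1 hc
    refine mem_centralizer_singleton_iff.2 ?_
    calc c.out⁻¹ * z * c.out * z = c.out⁻¹ * (z * (c.out * z * c.out⁻¹)) * c.out := by group
      _ = c.out⁻¹ * (c.out * z * c.out⁻¹ * z) * c.out := by rw [h1]
      _ = z * (c.out⁻¹ * z * c.out) := by group
  have hu0 : ∀ c : G ⧸ H, CfsgLib.InvolChar.LargeExtraChar.cj z c ∈ H → χ (c.out⁻¹ * z * c.out) = 0 := fun c hc => by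
    refine if_pos ?_
    have h := conj_mem_part b hn hEK hKi (g := c.out⁻¹) (by rw [inv_inv]; exact hcosmem c hc)
    rwa [inv_inv] at h
  have htr := CfsgLib.InvolChar.LargeExtraChar.transfer_eq_of_index b.hzz b.hz1 E b.hEH b.hEn b.hext b.hcent hχ hu0
    (fun c hyz hyH p _ _ _ => index_stabilizer_ne_two b hn c hyz hyH)
  let r : G ⧸ H → G := fun c => c.out
  have hr : ∀ c, (r c : G ⧸ H) = c := fun c => QuotientGroup.out_eq' c
  let f : G →* Multiplicative (ZMod 2) := MonoidHom.mk' (fun x => Multiplicative.ofAdd (∑ c, kappa χ r x c))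
    (fun a c => congrArg Multiplicative.ofAdd (sum_kappa_mul hχ hr a c))
  have hf : ∀ x ∈ H, (f x = 1 ↔ x ∈ K) := by
    intro x hx
    obtain ⟨r', hr', h⟩ := htr x hx
    rw [sum_kappa_indep hχ hr hr'] at h
    show Multiplicative.ofAdd (∑ c, kappa χ r x c) = 1 ↔ _
    rw [h, ofAdd_eq_one]
    simp only [χ]
    by_cases hk : x ∈ K <;> simp [hk]
  have hsurj : Function.Surjective f := by
    obtain ⟨x, hx, hxK⟩ : ∃ x ∈ H, x ∉ K := by
      by_contra hne
      push Not at hne
      rw [relIndex_eq_one.2 (show H ≤ K from hne)] at hKi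
      omega
    have h1 : f x ≠ 1 := fun h => hxK ((hf x hx).1 h)
    intro u
    by_cases hu : u = 1
    · exact ⟨1, by rw [map_one, hu]⟩
    · exact ⟨x, (show ∀ a b : Multiplicative (ZMod 2), a ≠ 1 → b ≠ 1 → a = b by decide) _ _ h1 hu⟩
  refine ⟨f.ker, inferInstance, ?_, (hf z (mem_centralizer_singleton_iff.2 rfl)).2 (hEK b.z_mem), ?_⟩
  · rw [index_ker, MonoidHom.range_eq_top.2 hsurj, card_top]
    simp
  · ext x
    exact ⟨fun h => (hf x h.2).1 h.1, fun h => ⟨(hf x (hKH h)).2 h, hKH h⟩⟩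

end CfsgLib.USixOuter
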