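import Cfsg.Agent.Lib.USixOuter.Setup
import Cfsg.Agent.Lib.USixOuter.InnerConj

/-!
# The subgroup of index two

When `z` is weakly closed in `J` the transfer of the sign of `C0` cuts out a subgroup of index two; here are
also the facts needed to recognise that subgroup.
-/

set_option autoImplicit false
set_option linter.unusedSectionVars false
set_option linter.style.haveILetI false

namespace CfsgLib.USixOuter

open Cfsg Subgroup
open CfsgLib.USixType (Cz)

variable {G : Type*} [Group G] [Finite G]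

/-- A subgroup of the centraliser seen inside a subgroup containing it. -/
def centEquiv {z : G} {R D : Subgroup G} (hzR : z ∈ R) (h : R ⊓ Cz z = D) :
    ↥(Cz (⟨z, hzR⟩ : ↥R)) ≃* ↥D where
  toFun y := ⟨(y : ↥R), h ▸ ⟨(y : ↥R).2, mem_centralizer_singleton_iff.2
    (congrArg Subtype.val (mem_centralizer_singleton_iff.1 y.2))⟩⟩
  invFun c := ⟨⟨c, (h.ge c.2).1⟩, mem_centralizer_singleton_iff.2
    (Subtype.ext (mem_centralizer_singleton_iff.1 (h.ge c.2).2))⟩
  left_inv _ := Subtype.ext (Subtype.ext rfl)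
  right_inv _ := Subtype.ext rfl
  map_mul' _ _ := rfl

theorem centEquiv_coe {z : G} {R D : Subgroup G} (hzR : z ∈ R) (h : R ⊓ Cz z = D)
    (y : ↥(Cz (⟨z, hzR⟩ : ↥R))) : ((centEquiv hzR h y : ↥D) : G) = ((y : ↥R) : G) := rfl

theorem Outer.z_mem {z : G} {C0 J : Subgroup G} (o : Outer z C0 J) : z ∈ J :=
  map_subtype_le _ (o.centre ▸ mem_zpowers z)

theorem Outer.cent_cases {z : G} {C0 J : Subgroup G} (o : Outer z C0 J) {x : G}
    (hx : x ∈ centralizer (J : Set G)) : x = 1 ∨ x = z := by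
  rw [o.self, o.centre] at hx
  obtain ⟨k, rfl⟩ := mem_zpowers_iff.1 hx
  have h2 : z ^ (2 : ℤ) = 1 := by
    rw [zpow_two, ← pow_two, ← o.ord, pow_orderOf_eq_one]
  rcases Int.even_or_odd k with ⟨j, hj⟩ | ⟨j, hj⟩
  · left; rw [hj, ← two_mul, zpow_mul, h2, one_zpow]
  · right; rw [hj, zpow_add, zpow_mul, h2, one_zpow, one_mul, zpow_one]

/-- The subgroup of index two, once `z` is weakly closed in `J`. -/
theorem Outer.exists_sub {z : G} {C0 J : Subgroup G} (o : Outer z C0 J)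
    (hweak : ∀ g : G, g * z * g⁻¹ ∈ J → g * z * g⁻¹ = z) :
    ∃ R : Subgroup G, R.Normal ∧ R.index = 2 ∧ z ∈ R ∧ R ⊓ Cz z = C0 := by
  have hzz : z * z = 1 := by rw [← pow_two, ← o.ord, pow_orderOf_eq_one]
  refine exists_index_two ⟨hzz, fun h => ?_, o.J_le.trans o.le, o.normJ, o.extra,
    fun x hx => ?_, hweak⟩ (by rw [o.cardJ]; norm_num) o.J_le o.le o.index
  · have h1 := o.ord
    rw [h, orderOf_one] at h1
    omega
  · rw [o.self] at hx
    exact map_subtype_le _ hx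

/-- What is needed to recognise the subgroup from its centraliser of `z`. -/
theorem inner_hyps {z : G} {C0 J R : Subgroup G} (o : Outer z C0 J) (hzR : z ∈ R) (hRC : R ⊓ Cz z = C0)
    {L : Type*} [Group L] {ψ : ↥C0 →* L} (hψ : Function.Surjective ψ) (hker : ψ.ker = J.subgroupOf C0) :
    IsExtraspecial 2 ↥(pCore 2 ↥(Cz (⟨z, hzR⟩ : ↥R))) ∧
      Nat.card ↥(pCore 2 ↥(Cz (⟨z, hzR⟩ : ↥R))) = 2 ^ 9 ∧
      centralizer ((pCore 2 ↥(Cz (⟨z, hzR⟩ : ↥R))) : Set ↥(Cz (⟨z, hzR⟩ : ↥R))) ≤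
        pCore 2 ↥(Cz (⟨z, hzR⟩ : ↥R)) ∧
      ∃ _ : (pCore 2 ↥(Cz (⟨z, hzR⟩ : ↥R))).Normal,
        Nonempty (↥(Cz (⟨z, hzR⟩ : ↥R)) ⧸ pCore 2 ↥(Cz (⟨z, hzR⟩ : ↥R)) ≃* L) := by
  classical
  haveI := Fact.mk Nat.prime_two
  haveI hJ0 : (J.subgroupOf C0).Normal := hker ▸ (inferInstance : ψ.ker.Normal)
  have hcore : pCore 2 ↥C0 = J.subgroupOf C0 := by
    refine le_antisymm (fun x hx => ?_) (CfsgLib.Cores.le_pCore
      (IsPGroup.of_card (n := 9) (by rw [Nat.card_congr (subgroupOfEquivOfLe o.J_le).toEquiv, o.cardJ])))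
    refine o.core ((pCore 2 ↥C0).map C0.subtype) (map_subtype_le _) ?_
      ((CfsgLib.Cores.isPGroup_pCore 2).map _) ⟨x, hx, rfl⟩
    rintro c hc _ ⟨y, hy, rfl⟩
    let α : ↥C0 ≃* ↥C0 :=
      { toFun := fun a => ⟨c * a * c⁻¹, o.norm c hc a a.2⟩
        invFun := fun a => ⟨c⁻¹ * a * c, by simpa using o.norm c⁻¹ (inv_mem hc) a a.2⟩
        left_inv := fun a => Subtype.ext (by simp [mul_assoc])
        right_inv := fun a => Subtype.ext (by simp [mul_assoc])
        map_mul' := fun a b => Subtype.ext (by simp [mul_assoc]) }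
    have h := (CfsgLib.Cores.map_pCore_equiv (p := 2) α).le (mem_map_of_mem α.toMonoidHom hy)
    exact ⟨α y, h, rfl⟩
  let ι := centEquiv hzR hRC
  set P := pCore 2 ↥(Cz (⟨z, hzR⟩ : ↥R)) with hPdef
  have hP : P = (J.subgroupOf C0).comap ι.toMonoidHom := by
    rw [← hcore, ← CfsgLib.Cores.map_pCore_equiv ι, comap_map_eq_self_of_injective ι.injective]
  have hmem : ∀ y, y ∈ P ↔ ((y : ↥R) : G) ∈ J := fun y => by rw [hP]; exact Iff.rfl
  have heq : Nonempty (↥P ≃* ↥J) := ⟨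
    { toFun := fun y => ⟨((y : ↥(Cz (⟨z, hzR⟩ : ↥R))) : ↥R), (hmem _).1 y.2⟩
      invFun := fun a => ⟨ι.symm ⟨a, o.J_le a.2⟩, (hmem _).2 a.2⟩
      left_inv := fun _ => Subtype.ext (Subtype.ext (Subtype.ext rfl))
      right_inv := fun _ => Subtype.ext rfl
      map_mul' := fun _ _ => rfl }⟩
  obtain ⟨eJ⟩ := heq
  refine ⟨CfsgLib.LargeExtra.isExtraspecial_of_mulEquiv eJ.symm o.extra,
    by rw [Nat.card_congr eJ.toEquiv, o.cardJ], fun y hy => (hmem y).2 ?_, ?_⟩
  · have h : ((y : ↥R) : G) ∈ centralizer (J : Set G) := mem_centralizer_iff.2 fun a ha => by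
      have := mem_centralizer_iff.1 hy (ι.symm ⟨a, o.J_le ha⟩) ((hmem _).2 ha)
      exact congrArg (fun v : ↥(Cz (⟨z, hzR⟩ : ↥R)) => ((v : ↥R) : G)) this
    rw [o.self] at h
    exact map_subtype_le _ h
  · have hk : (ψ.comp ι.toMonoidHom).ker = P := by rw [hP, ← hker, MonoidHom.comap_ker]
    haveI hPn : P.Normal := hk ▸ (inferInstance : (ψ.comp ι.toMonoidHom).ker.Normal)
    exact ⟨hPn, ⟨(QuotientGroup.quotientMulEquivOfEq hk.symm).trans
      (QuotientGroup.quotientKerEquivOfSurjective _ (hψ.comp ι.surjective))⟩⟩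

/-- The centraliser together with the odd core, from the same in the subgroup. -/
theorem top_of_sub {z : G} {C0 R : Subgroup G} [R.Normal] (hR : R.index = 2) (hzR : z ∈ R) (hRC : R ⊓ Cz z = C0)
    (hidx : C0.relIndex (Cz z) = 2)
    (h : Cz (⟨z, hzR⟩ : ↥R) ⊔ Cfsg.oddCore ↥R = ⊤) : Cz z ⊔ Cfsg.oddCore G = ⊤ := by
  haveI : (Cfsg.oddCore ↥R).Characteristic := CfsgLib.Cores.pPrimeCore_characteristic 2
  haveI : ((Cfsg.oddCore ↥R).map R.subtype).Normal := inferInstance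
  have hO : (Cfsg.oddCore ↥R).map R.subtype ≤ Cfsg.oddCore G := CfsgLib.Cores.le_oddCore_of_odd (by
    rw [card_map_of_injective R.subtype_injective]; exact CfsgLib.Cores.odd_card_oddCore)
  have hRle : R ≤ Cz z ⊔ Cfsg.oddCore G := by
    have h1 : (Cz (⟨z, hzR⟩ : ↥R) ⊔ Cfsg.oddCore ↥R).map R.subtype ≤ Cz z ⊔ Cfsg.oddCore G := by
      rw [Subgroup.map_sup]
      refine sup_le_sup ?_ hO
      rintro _ ⟨y, hy, rfl⟩
      exact mem_centralizer_singleton_iff.2 (congrArg Subtype.val (mem_centralizer_singleton_iff.1 hy))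
    rw [h, ← MonoidHom.range_eq_map, R.range_subtype] at h1
    exact h1
  rw [eq_top_iff]
  intro g _
  obtain ⟨c, hc, hcR⟩ : ∃ c ∈ Cz z, c ∉ R := by
    by_contra hne
    push Not at hne
    rw [← hRC, inf_eq_right.2 (show Cz z ≤ R from hne), relIndex_self] at hidx
    omega
  by_cases hg : g ∈ R
  · exact hRle hg
  · have h2 : g * c ∈ R := (Subgroup.mul_mem_iff_of_index_two hR).2
      ⟨fun h => absurd h hg, fun h => absurd h hcR⟩
    simpa using mul_mem (hRle h2) (inv_mem (mem_sup_left (T := Cfsg.oddCore G) hc))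

/-- Nothing but `1` centralises the subgroup, unless the centraliser is everything. -/
theorem cent_eq_bot {z : G} {C0 J R : Subgroup G} (o : Outer z C0 J) (hR : R.index = 2) (hRC : R ⊓ Cz z = C0)
    (hne : Cz z ≠ ⊤) : centralizer (R : Set G) = ⊥ := by
  have hJR : J ≤ R := o.J_le.trans (hRC ▸ inf_le_left)
  refine eq_bot_iff.2 fun x hx => mem_bot.2 ?_
  refine (o.cent_cases (mem_centralizer_iff.2 fun y hy => mem_centralizer_iff.1 hx y (hJR hy))).resolve_right ?_
  rintro rfl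
  refine hne (eq_top_iff.2 fun g _ => ?_)
  have hRle : R ≤ Cz x := fun y hy => mem_centralizer_singleton_iff.2 (mem_centralizer_iff.1 hx y hy)
  obtain ⟨c, hc, hcR⟩ : ∃ c ∈ Cz x, c ∉ R := by
    by_contra h
    push Not at h
    have hidx := o.index
    rw [← hRC, inf_eq_right.2 (show Cz x ≤ R from h), relIndex_self] at hidx
    omega
  by_cases hg : g ∈ R
  · exact hRle hg
  · have h2 : g * c ∈ R := (Subgroup.mul_mem_iff_of_index_two hR).2
      ⟨fun h => absurd h hg, fun h => absurd h hcR⟩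
    simpa using mul_mem (hRle h2) (inv_mem hc)

end CfsgLib.USixOuter
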