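import Cfsg.Agent.Lib.USixOuter.SplitWeak
import Cfsg.Agent.Lib.USixOuter.Index
import Cfsg.Prelude.Def_Classical

/-!
# An involution with centraliser `2^(1+8).Aut U₄(2)`: the subgroup of index two, or isolated
-/

set_option autoImplicit false
set_option linter.style.haveILetI false

namespace CfsgLib.USixOuter

open Cfsg Subgroup
open CfsgLib.USixType (Cz)

variable {G : Type*} [Group G] [Finite G]

/-- The other conjugates of `z` avoid `J`. -/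
theorem weak_of_outer {z : G} {C0 J : Subgroup G} (o : Outer z C0 J) {F : Type*} [Field F] [Fintype F]
    (hF : Fintype.card F = 3) {ψ : ↥C0 →* Cfsg.PSp 2 F} (hψ : Function.Surjective ψ)
    (hker : ψ.ker = J.subgroupOf C0) : ∀ g : G, g * z * g⁻¹ ∈ J → g * z * g⁻¹ = z := by
  have hzC : z ∈ C0 := o.J_le o.z_mem
  rcases half_or_split o hF hψ hker hzC with ⟨H, hC, hJ⟩ | hS
  · intro g hg
    exact H.weak g (hJ.symm ▸ hg)
  · haveI : (J.subgroupOf C0).Normal := hker ▸ (inferInstance : ψ.ker.Normal)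
    obtain ⟨ι⟩ := CfsgLib.USixType.Module.exists_iota hF
      ((QuotientGroup.quotientMulEquivOfEq hker.symm).trans (QuotientGroup.quotientKerEquivOfSurjective ψ hψ))
    have hz1 : (⟨z, hzC⟩ : ↥C0) ≠ 1 := fun h => by
      have h1 := o.ord
      rw [show z = 1 from congrArg Subtype.val h, orderOf_one] at h1
      omega
    have hfix : ∀ c : ↥C0, c * ⟨z, hzC⟩ = ⟨z, hzC⟩ * c := fun c =>
      Subtype.ext (mem_centralizer_singleton_iff.1 (o.le c.2))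
    have hext : IsExtraspecial 2 ↥(J.subgroupOf C0) :=
      CfsgLib.LargeExtra.isExtraspecial_of_mulEquiv (subgroupOfEquivOfLe o.J_le).symm o.extra
    have hcard : Nat.card ↥(J.subgroupOf C0) = 2 ^ 9 := by
      rw [Nat.card_congr (subgroupOfEquivOfLe o.J_le).toEquiv, o.cardJ]
    have hself : ∀ c : ↥C0, (∀ x ∈ J.subgroupOf C0, c * x = x * c) → c ∈ J.subgroupOf C0 := fun c hc => by
      have h : (c : G) ∈ centralizer (J : Set G) := mem_centralizer_iff.2 fun y hy =>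
        (congrArg Subtype.val (hc ⟨y, o.J_le hy⟩ hy)).symm
      rw [o.self] at h
      exact mem_subgroupOf.2 (map_subtype_le _ h)
    obtain ⟨V, _, _, _, q, ⟨S⟩⟩ := CfsgLib.USixType.exists_setup (J.subgroupOf C0) hext hcard
      (zc := (⟨z, hzC⟩ : ↥C0)) o.z_mem hz1 hfix hself ι hS
    exact fun g hg => SplitHalf.weak ⟨o, hzC, S⟩ g hg

/-- The statement, given the recognition of a group whose centraliser is `2^(1+8).U₄(2)`. -/
theorem main_of_inner {z : G} (hz : orderOf z = 2) {F : Type*} [Field F] [Fintype F] (hF : Fintype.card F = 3)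
    (hJ : IsExtraspecial 2 ↥(pCore 2 ↥(Cz z))) (hJc : Nat.card ↥(pCore 2 ↥(Cz z)) = 2 ^ 9)
    (hCJ : centralizer ((pCore 2 ↥(Cz z)) : Set ↥(Cz z)) ≤ pCore 2 ↥(Cz z)) [(pCore 2 ↥(Cz z)).Normal]
    (e : ↥(Cz z) ⧸ pCore 2 ↥(Cz z) ≃* MulAut (Cfsg.PSp 2 F)) {K : Type*} [Field K] [Fintype K]
    (hinner : ∀ (R : Subgroup G) (w : ↥R), orderOf w = 2 → IsExtraspecial 2 ↥(pCore 2 ↥(Cz w)) →
      Nat.card ↥(pCore 2 ↥(Cz w)) = 2 ^ 9 →
      centralizer ((pCore 2 ↥(Cz w)) : Set ↥(Cz w)) ≤ pCore 2 ↥(Cz w) →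
      ∀ [(pCore 2 ↥(Cz w)).Normal], (↥(Cz w) ⧸ pCore 2 ↥(Cz w) ≃* Cfsg.PSp 2 F) →
      Nonempty (↥R ≃* Cfsg.PSU 6 K 2) ∨ Cz w ⊔ Cfsg.oddCore ↥R = ⊤) :
    (∃ G₀ : Subgroup G, G₀.index = 2 ∧ Nonempty (↥G₀ ≃* Cfsg.PSU 6 K 2) ∧ centralizer (G₀ : Set G) = ⊥) ∨
      Cz z ⊔ Cfsg.oddCore G = ⊤ := by
  obtain ⟨C0, J, ψ, o, hψ, hker⟩ := exists_outer hz hF hJ hJc hCJ e
  obtain ⟨R, hRn, hR, hzR, hRC⟩ := o.exists_sub (weak_of_outer o hF hψ hker)
  by_cases htop : Cz z = ⊤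
  · exact .inr (by rw [htop, top_sup_eq])
  haveI := hRn
  obtain ⟨h1, h2, h3, hn, ⟨e'⟩⟩ := inner_hyps o hzR hRC hψ hker
  haveI := hn
  rcases hinner R ⟨z, hzR⟩ (by rw [Subgroup.orderOf_mk, o.ord]) h1 h2 h3 e' with h | h
  · exact .inl ⟨R, hR, h, cent_eq_bot o hR hRC htop⟩
  · exact .inr (top_of_sub hR hzR hRC o.index h)

end CfsgLib.USixOuter
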