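import Cfsg.Agent.Lib.USixOuter.Weak
import Cfsg.Agent.Lib.USixType.Module.Main
import Cfsg.Agent.Lib.Classical.AutOrder.PSp
import Cfsg.Agent.Lib.LargeExtra.SubExtra
import Cfsg.Agent.Lib.Cores.Basic

/-!
# The part of index two from the printed hypotheses, and its natural model
-/

set_option autoImplicit false
set_option linter.unusedSectionVars false
set_option linter.style.haveILetI false

namespace CfsgLib.USixOuter

open Cfsg Subgroup
open CfsgLib.USixType (Cz Model)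

variable {G : Type*} [Group G] [Finite G]

/-- The centraliser with its part of index two. -/
structure Outer (z : G) (C0 J : Subgroup G) : Prop where
  ord : orderOf z = 2
  J_eq : J = (pCore 2 ↥(Cz z)).map (Cz z).subtype
  J_le : J ≤ C0
  le : C0 ≤ Cz z
  norm : ∀ c ∈ Cz z, ∀ x ∈ C0, c * x * c⁻¹ ∈ C0
  index : C0.relIndex (Cz z) = 2
  extra : IsExtraspecial 2 ↥J
  cardJ : Nat.card ↥J = 2 ^ 9
  centre : (center ↥J).map J.subtype = zpowers z
  self : centralizer (J : Set G) = (center ↥J).map J.subtype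
  normJ : ∀ c ∈ Cz z, ∀ x ∈ J, c * x * c⁻¹ ∈ J
  faithful : ∀ c ∈ Cz z, (∀ x ∈ J, c * x * c⁻¹ = x ∨ c * x * c⁻¹ = x * z) → c ∈ J
  core : ∀ N : Subgroup G, N ≤ C0 → (∀ c ∈ Cz z, ∀ x ∈ N, c * x * c⁻¹ ∈ N) → IsPGroup 2 ↥N → N ≤ J

theorem exists_noncommuting_psp {F : Type*} [Field F] [Fintype F] (hF : Fintype.card F = 3) :
    ∃ a b : Cfsg.PSp 2 F, a * b ≠ b * a := by
  obtain ⟨f⟩ := CfsgLib.Classical.SmallIso.UFour.su_four_two (F := CfsgLib.U62Type.F4) (K := F) rfl hF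
  obtain ⟨p, q, fl⟩ : ∃ p q, CfsgLib.USixType.Flag
      ((Pi.single 0 1 + Pi.single 1 1 : Fin 4 → CfsgLib.U62Type.F4)) p q := by
    refine CfsgLib.USixType.exists_flag (rfl : Fintype.card CfsgLib.U62Type.F4 = 2 ^ 2) ⟨?_, ?_⟩
    · intro h
      have := congrFun h 0
      simp at this
    · decide +kernel
  have hF4 : Fintype.card CfsgLib.U62Type.F4 = 2 ^ 2 := rfl
  have hp : CfsgLib.PSUAut.Isot 2 p := by simpa using fl.shift_isot hF4 0 (fl.shift_ne hF4 0)
  have hq : CfsgLib.PSUAut.Isot 2 q := by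
    simpa using (fl.swap hF4).shift_isot hF4 0 ((fl.swap hF4).shift_ne hF4 0)
  obtain ⟨s, hs⟩ := CfsgLib.SURadical.exists_pt hF4 hp
  obtain ⟨t, ht⟩ := CfsgLib.SURadical.exists_pt hF4 hq
  refine ⟨f s, f t, fun h => ?_⟩
  rw [← map_mul, ← map_mul] at h
  have h1 := (CfsgLib.SURadical.IsPt.commute_iff hF4 hs ht).1 (f.injective h)
  rw [fl.hpq] at h1
  exact one_ne_zero h1

theorem index_inner {F : Type*} [Field F] [Fintype F] (hF : Fintype.card F = 3) :
    Function.Injective (MulAut.conj : Cfsg.PSp 2 F →* MulAut (Cfsg.PSp 2 F)) ∧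
      (MulAut.conj : Cfsg.PSp 2 F →* MulAut (Cfsg.PSp 2 F)).range.index = 2 := by
  classical
  haveI : Fact (Nat.Prime 3) := ⟨Nat.prime_three⟩
  haveI hs : IsSimpleGroup (Cfsg.PSp 2 F) := CfsgLib.Classical.isSimpleGroup_PSp le_rfl fun _ => by rw [hF]
  have hinj : Function.Injective (MulAut.conj : Cfsg.PSp 2 F →* MulAut (Cfsg.PSp 2 F)) := by
    rw [injective_iff_map_eq_one]
    intro x hx
    have hc : x ∈ center (Cfsg.PSp 2 F) := mem_center_iff.2 fun y => by
      have h1 : x * y * x⁻¹ = y := by rw [← MulAut.conj_apply, hx]; rfl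
      exact (mul_inv_eq_iff_eq_mul.1 h1).symm
    rcases Subgroup.Normal.eq_bot_or_eq_top (H := center (Cfsg.PSp 2 F)) inferInstance with h | h
    · rwa [h, mem_bot] at hc
    · obtain ⟨a, b, hab⟩ := exists_noncommuting_psp hF
      exact absurd (mem_center_iff.1 (h ▸ mem_top a : a ∈ center (Cfsg.PSp 2 F)) b).symm hab
  refine ⟨hinj, ?_⟩
  have h1 := CfsgLib.Classical.AutOrder.card_mulaut_psp 3 1 le_rfl (F := F) (by rw [hF]; rfl) (m := 2) le_rfl
    (fun _ => by norm_num)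
  have h2 := (MulAut.conj : Cfsg.PSp 2 F →* MulAut (Cfsg.PSp 2 F)).range.card_mul_index
  rw [if_neg (by omega), show Nat.gcd 2 (3 ^ 1 - 1) = 2 by rfl] at h1
  rw [h1, ← Nat.card_congr (MonoidHom.ofInjective hinj).toEquiv, one_mul, mul_one, mul_comm 2] at h2
  exact Nat.eq_of_mul_eq_mul_left Nat.card_pos h2

/-- The part of index two, over the inner automorphisms. -/
theorem exists_outer {z : G} (hz : orderOf z = 2) {F : Type*} [Field F] [Fintype F] (hF : Fintype.card F = 3)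
    (hJ : IsExtraspecial 2 ↥(pCore 2 ↥(Cz z))) (hJc : Nat.card ↥(pCore 2 ↥(Cz z)) = 2 ^ 9)
    (hCJ : centralizer ((pCore 2 ↥(Cz z)) : Set ↥(Cz z)) ≤ pCore 2 ↥(Cz z)) [(pCore 2 ↥(Cz z)).Normal]
    (e : ↥(Cz z) ⧸ pCore 2 ↥(Cz z) ≃* MulAut (Cfsg.PSp 2 F)) :
    ∃ (C0 J : Subgroup G) (ψ : ↥C0 →* Cfsg.PSp 2 F), Outer z C0 J ∧ Function.Surjective ψ ∧
      ψ.ker = J.subgroupOf C0 := by
  classical
  haveI := Fact.mk Nat.prime_two
  obtain ⟨hinj, hidx⟩ := index_inner hF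
  set P := pCore 2 ↥(Cz z) with hP
  set φ : ↥(Cz z) →* MulAut (Cfsg.PSp 2 F) := e.toMonoidHom.comp (QuotientGroup.mk' P) with hφ
  have hφs : Function.Surjective φ := e.surjective.comp (QuotientGroup.mk'_surjective P)
  have hφk : ∀ c, φ c = 1 ↔ c ∈ P := fun c => by
    show e (QuotientGroup.mk' P c) = 1 ↔ _
    rw [MulEquiv.map_eq_one_iff]
    exact QuotientGroup.eq_one_iff c
  set K := ((MulAut.conj : Cfsg.PSp 2 F →* MulAut (Cfsg.PSp 2 F)).range).comap φ with hK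
  have hKi : K.index = 2 := by rw [hK, index_comap_of_surjective _ hφs, hidx]
  haveI hKn : K.Normal := normal_of_index_eq_two hKi
  have hPK : P ≤ K := fun c hc => by rw [hK, mem_comap, (hφk c).2 hc]; exact one_mem _
  have hzz : z * z = 1 := by rw [← pow_two, ← hz, pow_orderOf_eq_one]
  have hzC : z ∈ Cz z := mem_centralizer_singleton_iff.2 rfl
  have hzP : (⟨z, hzC⟩ : ↥(Cz z)) ∈ P := hCJ (mem_centralizer_iff.2 fun y _ =>
    Subtype.ext (mem_centralizer_singleton_iff.1 y.2))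
  set C0 := K.map (Cz z).subtype with hC0
  set J := P.map (Cz z).subtype with hJdef
  have hmemK : ∀ {c : ↥(Cz z)}, (c : G) ∈ C0 ↔ c ∈ K := fun {c} =>
    ⟨fun ⟨d, hd, e⟩ => by rwa [← show d = c from Subtype.ext e], fun h => ⟨c, h, rfl⟩⟩
  have hmemP : ∀ {c : ↥(Cz z)}, (c : G) ∈ J ↔ c ∈ P := fun {c} =>
    ⟨fun ⟨d, hd, e⟩ => by rwa [← show d = c from Subtype.ext e], fun h => ⟨c, h, rfl⟩⟩
  have hC0le : C0 ≤ Cz z := map_subtype_le K
  have hJle : J ≤ Cz z := map_subtype_le P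
  have hext : IsExtraspecial 2 ↥J :=
    CfsgLib.LargeExtra.isExtraspecial_of_mulEquiv (P.equivMapOfInjective (Cz z).subtype (subtype_injective _)) hJ
  have hcard : Nat.card ↥J = 2 ^ 9 := by rw [hJdef, card_map_of_injective (subtype_injective _), hJc]
  have hzJ : z ∈ J := ⟨_, hzP, rfl⟩
  have hcentre : (center ↥J).map J.subtype = zpowers z := by
    have hzc : (⟨z, hzJ⟩ : ↥J) ∈ center ↥J :=
      mem_center_iff.2 fun y => Subtype.ext (mem_centralizer_singleton_iff.1 (hJle y.2))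
    refine (eq_of_le_of_card_ge (H := zpowers z) (zpowers_le.2 (show z ∈ (center ↥J).map J.subtype from ⟨_, hzc, rfl⟩)) ?_).symm
    rw [card_map_of_injective J.subtype_injective, CfsgLib.LargeExtra.centre_card hext, Nat.card_zpowers, hz]
  have hnormJ : ∀ c ∈ Cz z, ∀ x ∈ J, c * x * c⁻¹ ∈ J := by
    rintro c hc _ ⟨x, hx, rfl⟩
    exact ⟨⟨c, hc⟩ * x * (⟨c, hc⟩ : ↥(Cz z))⁻¹, (inferInstance : P.Normal).conj_mem x hx _, rfl⟩
  refine ⟨C0, J, ((MonoidHom.ofInjective hinj).symm.toMonoidHom.comp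
    ((φ.comp (Subgroup.inclusion hC0le)).codRestrict _ fun c => ?_)), ⟨hz, rfl, ?_, hC0le, ?_, ?_, hext, hcard,
    hcentre, ?_, hnormJ, ?_, ?_⟩, ?_, ?_⟩
  · exact (hmemK (c := ⟨c, hC0le c.2⟩)).1 c.2
  · exact map_mono hPK
  · rintro c hc _ ⟨x, hx, rfl⟩
    exact ⟨⟨c, hc⟩ * x * (⟨c, hc⟩ : ↥(Cz z))⁻¹, hKn.conj_mem x hx _, rfl⟩
  · rw [hC0, relIndex, subgroupOf, comap_map_eq_self_of_injective (subtype_injective _), hKi]
  · refine le_antisymm (fun c hc => ?_) ?_
    · have hcC : c ∈ Cz z := mem_centralizer_singleton_iff.2 ((mem_centralizer_iff.1 hc z hzJ).symm)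
      have h1 : (⟨c, hcC⟩ : ↥(Cz z)) ∈ P := hCJ (mem_centralizer_iff.2 fun y hy =>
        Subtype.ext (mem_centralizer_iff.1 hc y ⟨y, hy, rfl⟩))
      exact ⟨⟨c, ⟨_, h1, rfl⟩⟩, mem_center_iff.2 fun y => Subtype.ext (mem_centralizer_iff.1 hc y y.2), rfl⟩
    · rintro _ ⟨c, hc, rfl⟩
      exact mem_centralizer_iff.2 fun y hy => congrArg Subtype.val (mem_center_iff.1 hc ⟨y, hy⟩)
  · -- what centralises the quotient is a normal `2`-subgroup
    intro c hc hcx
    set zc : ↥(Cz z) := ⟨z, hzC⟩ with hzc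
    have hzcc : ∀ x : ↥(Cz z), x * zc = zc * x := fun x => Subtype.ext (mem_centralizer_singleton_iff.1 x.2)
    have hzc2 : zc * zc = 1 := Subtype.ext hzz
    let T : Subgroup ↥(Cz z) :=
      { carrier := {c | ∀ x ∈ P, c * x * c⁻¹ = x ∨ c * x * c⁻¹ = x * zc}
        one_mem' := fun x _ => .inl (by group)
        mul_mem' := fun {a b} ha hb x hx => by
          rw [show a * b * x * (a * b)⁻¹ = a * (b * x * b⁻¹) * a⁻¹ by group]
          rcases hb x hx with h | h <;> rw [h]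
          · exact ha x hx
          · rw [show a * (x * zc) * a⁻¹ = a * x * a⁻¹ * (a * zc * a⁻¹) by group, hzcc a, mul_inv_cancel_right]
            rcases ha x hx with h' | h' <;> rw [h']
            · exact .inr rfl
            · exact .inl (by rw [mul_assoc, hzc2, mul_one])
        inv_mem' := fun {a} ha x hx => by
          have hy := (inferInstance : P.Normal).conj_mem x hx a⁻¹
          rw [inv_inv] at hy ⊢
          rcases ha _ hy with h | h <;> rw [show a * (a⁻¹ * x * a) * a⁻¹ = x by group] at h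
          · exact .inl h.symm
          · refine .inr ?_
            calc a⁻¹ * x * a = a⁻¹ * x * a * (zc * zc) := by rw [hzc2, mul_one]
              _ = x * zc := by rw [← mul_assoc, ← h] }
    haveI : T.Normal := ⟨fun a ha d x hx => by
      have hy := (inferInstance : P.Normal).conj_mem x hx d⁻¹
      rw [inv_inv] at hy
      rw [show d * a * d⁻¹ * x * (d * a * d⁻¹)⁻¹ = d * (a * (d⁻¹ * x * d) * a⁻¹) * d⁻¹ by group]
      rcases ha _ hy with h | h <;> rw [h]
      · left; group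
      · right
        calc d * (d⁻¹ * x * d * zc) * d⁻¹ = x * (d * zc * d⁻¹) := by group
          _ = x * zc := by rw [hzcc d, mul_inv_cancel_right]⟩
    have hTp : IsPGroup 2 ↥T := by
      rintro ⟨a, ha⟩
      have h2 : a * a ∈ P := hCJ (mem_centralizer_iff.2 fun x hx => by
        have h : a * a * x * (a * a)⁻¹ = x := by
          rw [show a * a * x * (a * a)⁻¹ = a * (a * x * a⁻¹) * a⁻¹ by group]
          rcases ha x hx with h | h
          · rw [h, h]
          · rw [h, show a * (x * zc) * a⁻¹ = a * x * a⁻¹ * (a * zc * a⁻¹) by group, h, hzcc a,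
              mul_inv_cancel_right, mul_assoc, hzc2, mul_one]
        exact (mul_inv_eq_iff_eq_mul.1 h).symm)
      obtain ⟨k, hk⟩ := CfsgLib.Cores.isPGroup_pCore 2 ⟨a * a, h2⟩
      refine ⟨k + 1, Subtype.ext ?_⟩
      have hk' := congrArg Subtype.val hk
      simp only [SubmonoidClass.coe_pow, OneMemClass.coe_one] at hk' ⊢
      rw [pow_succ', pow_mul, pow_two]
      exact hk'
    refine ⟨⟨c, hc⟩, CfsgLib.Cores.le_pCore hTp (fun x hx => ?_), rfl⟩
    exact (hcx _ ⟨x, hx, rfl⟩).imp (fun h => Subtype.ext h) fun h => Subtype.ext h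
  · intro N hN hNn hNp x hx
    have hxC := hC0le (hN hx)
    haveI : (N.comap (Cz z).subtype).Normal :=
      ⟨fun a ha d => hNn _ d.2 _ ha⟩
    exact (hmemP (c := ⟨x, hxC⟩)).2 (CfsgLib.Cores.le_pCore hNp.comap_subtype (show (⟨x, hxC⟩ : ↥(Cz z)) ∈ N.comap (Cz z).subtype from hx))
  · refine (MonoidHom.ofInjective hinj).symm.surjective.comp fun w => ?_
    obtain ⟨c, hc⟩ := hφs w.1
    exact ⟨⟨c, hmemK.2 (by rw [hK, mem_comap, hc]; exact w.2)⟩, Subtype.ext hc⟩
  · ext c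
    rw [MonoidHom.mem_ker, MonoidHom.comp_apply, mem_subgroupOf]
    refine (MonoidHom.ofInjective hinj).symm.map_eq_one_iff.trans ?_
    refine Subtype.ext_iff.trans ?_
    exact (hφk ⟨c, hC0le c.2⟩).trans hmemP.symm

/-- The natural model of the part, or a split product. -/
theorem half_or_split {z : G} {C0 J : Subgroup G} (o : Outer z C0 J) {F : Type*} [Field F] [Fintype F]
    (hF : Fintype.card F = 3) {ψ : ↥C0 →* Cfsg.PSp 2 F} (hψ : Function.Surjective ψ)
    (hker : ψ.ker = J.subgroupOf C0) (hzC : z ∈ C0) :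
    (∃ H : Half z CfsgLib.U62Type.F4, H.C0 = C0 ∧ H.J = J) ∨
      CfsgLib.USixType.Module.SplitData (J.subgroupOf C0) (⟨z, hzC⟩ : ↥C0) := by
  haveI : (J.subgroupOf C0).Normal := hker ▸ (inferInstance : ψ.ker.Normal)
  obtain ⟨ι⟩ := CfsgLib.USixType.Module.exists_iota hF
    ((QuotientGroup.quotientMulEquivOfEq hker.symm).trans (QuotientGroup.quotientKerEquivOfSurjective ψ hψ))
  have hzJ : z ∈ J := map_subtype_le _ (o.centre ▸ mem_zpowers z)
  have hz1 : (⟨z, hzC⟩ : ↥C0) ≠ 1 := fun h => by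
    have h1 := o.ord
    rw [show z = 1 from congrArg Subtype.val h, orderOf_one] at h1
    omega
  have hfix : ∀ c : ↥C0, c * ⟨z, hzC⟩ = ⟨z, hzC⟩ * c := fun c =>
    Subtype.ext (mem_centralizer_singleton_iff.1 (o.le c.2))
  have hext : IsExtraspecial 2 ↥(J.subgroupOf C0) :=
    CfsgLib.LargeExtra.isExtraspecial_of_mulEquiv (subgroupOfEquivOfLe o.J_le).symm o.extra
  have hcard : Nat.card ↥(J.subgroupOf C0) = 2 ^ 9 := by
    rw [Nat.card_congr (subgroupOfEquivOfLe o.J_le).toEquiv, o.cardJ]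
  have hself : ∀ c : ↥C0, (∀ x ∈ J.subgroupOf C0, c * x = x * c) → c ∈ J.subgroupOf C0 := fun c hc => by
    have h : (c : G) ∈ centralizer (J : Set G) := mem_centralizer_iff.2 fun y hy =>
      (congrArg Subtype.val (hc ⟨y, o.J_le hy⟩ hy)).symm
    rw [o.self] at h
    exact mem_subgroupOf.2 (map_subtype_le _ h)
  rcases CfsgLib.USixType.Module.exists_coords _ hext hcard (zc := ⟨z, hzC⟩) hzJ hz1 hfix hself ι with ⟨⟨D⟩⟩ | h
  swap
  · exact .inr h
  left
  let m : Model (⟨z, hzC⟩ : ↥C0) CfsgLib.U62Type.F4 :=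
    { hF := rfl
      ord := by rw [Subgroup.orderOf_mk, o.ord]
      ρ := D.ρ.comp (Cz (⟨z, hzC⟩ : ↥C0)).subtype
      surj := fun T => by
        obtain ⟨c, rfl⟩ := D.surj T
        exact ⟨⟨c, mem_centralizer_singleton_iff.2 (hfix c)⟩, rfl⟩
      χ := fun x => D.χ ⟨x.1, D.ker.le x.2⟩
      χ_mul := fun x y => D.χ_mul ⟨x.1, D.ker.le x.2⟩ ⟨y.1, D.ker.le y.2⟩
      χ_surj := fun v => by
        obtain ⟨x, rfl⟩ := D.χ_surj v
        exact ⟨⟨⟨x.1, mem_centralizer_singleton_iff.2 (hfix x.1)⟩, D.ker.ge x.2⟩, rfl⟩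
      χ_ker := fun x => D.χ_ker _
      χ_sq := fun x => (D.χ_sq _).trans
        ⟨fun h => Subtype.ext (Subtype.ext h), fun h => congrArg Subtype.val (congrArg Subtype.val h)⟩
      χ_equiv := fun c x => D.χ_equiv c.1 ⟨x.1, D.ker.le x.2⟩
        ⟨(MulAut.conjNormal c x).1, D.ker.le (MulAut.conjNormal c x).2⟩ (congrArg Subtype.val (MulAut.conjNormal_apply c x)) }
  have hmJ : m.J.map C0.subtype = J := by
    refine le_antisymm ?_ fun x hx => ?_
    · rintro _ ⟨_, ⟨k, hk, rfl⟩, rfl⟩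
      exact D.ker.le hk
    · exact ⟨⟨x, o.J_le hx⟩, ⟨⟨_, mem_centralizer_singleton_iff.2 (hfix _)⟩, D.ker.ge (show (⟨x, o.J_le hx⟩ : ↥C0) ∈ J.subgroupOf C0 from hx), rfl⟩, rfl⟩
  exact ⟨⟨C0, o.le, hzC, o.norm, m, hmJ.symm ▸ o.normJ, hmJ.symm ▸ o.faithful, hmJ.symm ▸ o.extra,
    hmJ.symm ▸ o.centre, hmJ.symm ▸ o.self⟩, rfl, hmJ⟩

end CfsgLib.USixOuter
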