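import Cfsg.Agent.Lib.USixType.SplitCase

/-!
# The split case: fixed vectors, short orbits and isotropic subspaces
-/

set_option autoImplicit false
set_option linter.unusedSectionVars false
set_option linter.style.haveILetI false

namespace CfsgLib.USixType

open Cfsg Subgroup
open CfsgLib.U62Type (F4)
open CfsgLib.LargeFischer (vadd_self q_add eq_of_vadd z2_cases polar_self_zero q_zero)
open QuadraticMap (polar polarBilin polar_add_left polar_add_right polar_comm)

local notation "SU4" => Cfsg.SU 4 F4 2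

namespace Setup

variable {C : Type*} [Group C] [Finite C] {J : Subgroup C} {zc : C} {V : Type} [AddCommGroup V]
  [_root_.Module (ZMod 2) V] [Finite V] {q : QuadraticForm (ZMod 2) V} (S : Setup J zc q)

include S

theorem fixed_le_piece {v : V} (hv : ∀ γ, S.M.ρ γ v = v) : v ∈ S.M.R 13 := by
  refine LinearMap.mem_range.2 ⟨v, ?_⟩
  have h1 : ∀ a, Module.fW 13 a = 1 := by decide +kernel
  simp only [Module.En, LinearMap.sum_apply, LinearMap.smul_apply, hv, h1, one_smul]
  rw [Finset.sum_const, Finset.card_univ, Fintype.card_fin, ← Nat.cast_smul_eq_nsmul (ZMod 2) 27 v,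
    show ((27 : ℕ) : ZMod 2) = 1 from rfl, one_smul]

/-- Only the small part is fixed by everything. -/
theorem fixed_mem_A {v : V} (hv : ∀ γ, S.M.ρ γ v = v) : v ∈ S.img S.A := by
  haveI := S.M.finite
  have hA : Nat.card ↥(S.img S.A) = 4 := by
    have := S.card_img S.A_le S.zA
    rw [S.cardA] at this
    omega
  have hle : S.img S.A ≤ S.M.R 13 := fun w hw => S.fixed_le_piece fun γ => S.img_fixed γ hw
  have hR : Nat.card ↥(S.M.R 13) ≤ 4 := by
    rcases S.M.nat_or_split with h | h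
    · have := h.2 13 (by decide)
      unfold Module.Mod.n at this
      omega
    · have := h.1
      unfold Module.Mod.n at this
      omega
  have h : (S.img S.A : Set V) = (S.M.R 13 : Set V) := Set.eq_of_subset_of_ncard_le hle (by
    show (S.M.R 13 : Set V).ncard ≤ (S.img S.A : Set V).ncard
    rw [← Nat.card_coe_set_eq, ← Nat.card_coe_set_eq]
    exact hR.trans hA.ge)
  exact h.ge (S.fixed_le_piece hv)

theorem A_inf_B {v : V} (ha : v ∈ S.img S.A) (hb : v ∈ S.img S.B) : v = 0 := by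
  refine S.A_nondeg v ha fun w hw => ?_
  obtain ⟨x, hx, rfl⟩ := hb
  obtain ⟨y, hy, rfl⟩ := hw
  exact (S.comm_iff x y).2 (S.A_B _ hy _ hx).symm

theorem exists_parts (v : V) : ∃ a ∈ S.img S.A, ∃ b ∈ S.img S.B, v = a + b := by
  obtain ⟨x, rfl⟩ := S.π_surj v
  haveI := S.hB
  obtain ⟨a, ha, b, hb, e⟩ := mem_sup_of_normal_right.1 (S.sup.ge x.2)
  refine ⟨_, ⟨⟨a, S.A_le ha⟩, ha, rfl⟩, _, ⟨⟨b, S.B_le hb⟩, hb, rfl⟩, ?_⟩
  rw [← S.π_mul]
  exact congrArg S.π (Subtype.ext e.symm)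

theorem A_perp_B {a b : V} (ha : a ∈ S.img S.A) (hb : b ∈ S.img S.B) : polar q a b = 0 := by
  obtain ⟨x, hx, rfl⟩ := ha
  obtain ⟨y, hy, rfl⟩ := hb
  exact (S.comm_iff x y).2 (S.A_B _ hx _ hy)

theorem parts_unique {a a' b b' : V} (ha : a ∈ S.img S.A) (ha' : a' ∈ S.img S.A) (hb : b ∈ S.img S.B)
    (hb' : b' ∈ S.img S.B) (h : a + b = a' + b') : a = a' ∧ b = b' := by
  have e : a + a' = b + b' := by
    calc a + a' = (a + b) + (b + a') := by
          rw [add_assoc, ← add_assoc b b a', vadd_self, zero_add]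
      _ = (a' + b') + (b + a') := by rw [h]
      _ = (a' + a') + (b + b') := by abel
      _ = b + b' := by rw [vadd_self, zero_add]
  have h0 := S.A_inf_B (add_mem ha ha') (e ▸ add_mem hb hb')
  exact ⟨eq_of_vadd h0, eq_of_vadd (e ▸ h0)⟩

/-- A totally isotropic subspace has at most sixteen vectors. -/
theorem card_iso_le (U : Submodule (ZMod 2) V) (hiso : ∀ v ∈ U, ∀ w ∈ U, polar q v w = 0) :
    Nat.card ↥U ≤ 16 := by
  have hinj : Function.Injective (polarBilin q : V →ₗ[ZMod 2] _root_.Module.Dual (ZMod 2) V) := by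
    rw [injective_iff_map_eq_zero]
    exact fun v hv => S.hnd v fun w => LinearMap.congr_fun hv w
  have hle : U.map (polarBilin q) ≤ U.dualAnnihilator := by
    rintro _ ⟨v, hv, rfl⟩
    exact (Submodule.mem_dualAnnihilator _).2 fun w hw => hiso v hv w hw
  have h1 : _root_.Module.finrank (ZMod 2) ↥U ≤ _root_.Module.finrank (ZMod 2) ↥U.dualAnnihilator :=
    (Submodule.equivMapOfInjective _ hinj U).finrank_eq.le.trans (Submodule.finrank_mono hle)
  have h2 := Subspace.finrank_add_finrank_dualAnnihilator_eq (V := V) U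
  rw [finrank_of_card (n := 8) S.M.card] at h2
  rw [_root_.Module.natCard_eq_pow_finrank (K := ZMod 2), Nat.card_zmod]
  exact le_trans (Nat.pow_le_pow_right (by norm_num) (by omega : _root_.Module.finrank (ZMod 2) ↥U ≤ 4)) (by norm_num)

variable {s : C} (hs : s * s = 1) (hsJ : s ∈ J)
include hs hsJ

/-- An involution of `J` has at most 72 conjugates. -/
theorem index_cent_le : (centralizer ({s} : Set C)).index ≤ 72 := by
  classical
  haveI : J.Normal := S.ker ▸ inferInstance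
  obtain ⟨w, hw, p, hp, hwp⟩ : ∃ w ∈ S.A, ∃ p ∈ S.B, w * p = s := by
    haveI := S.hB
    exact mem_sup_of_normal_right.1 (S.sup.ge hsJ)
  have hmemJ : ∀ c, c * s * c⁻¹ ∈ J := fun c => Subgroup.Normal.conj_mem inferInstance _ hsJ c
  have himg : ∀ c, S.π ⟨_, hmemJ c⟩ + S.π ⟨w, S.A_le hw⟩ ∈ S.img S.B ∧
      q (S.π ⟨_, hmemJ c⟩ + S.π ⟨w, S.A_le hw⟩) = q (S.π ⟨w, S.A_le hw⟩) := by
    intro c
    have hpB : c * p * c⁻¹ ∈ S.B := S.hB.conj_mem _ hp c
    have hwA : c * w * c⁻¹ ∈ S.A := S.hA.conj_mem _ hw c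
    have e : (⟨_, hmemJ c⟩ : ↥J) = ⟨_, S.A_le hwA⟩ * ⟨_, S.B_le hpB⟩ :=
      Subtype.ext (by show c * s * c⁻¹ = (c * w * c⁻¹) * (c * p * c⁻¹); rw [← hwp]; group)
    have ew : S.π ⟨_, S.A_le hwA⟩ = S.π ⟨w, S.A_le hw⟩ := by
      rw [S.π_act c ⟨w, S.A_le hw⟩ ⟨_, S.A_le hwA⟩ rfl]
      exact S.img_fixed _ ⟨_, hw, rfl⟩
    have hpol : polar q (S.π ⟨w, S.A_le hw⟩) (S.π ⟨_, S.B_le hpB⟩) = 0 :=
      (S.comm_iff _ _).2 (S.A_B w hw _ hpB)
    have hq0 : q (S.π ⟨_, hmemJ c⟩) = 0 := (S.sq_one_iff _).2 (by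
      show c * s * c⁻¹ * (c * s * c⁻¹) = 1
      rw [show c * s * c⁻¹ * (c * s * c⁻¹) = c * (s * s) * c⁻¹ by group, hs, mul_one, mul_inv_cancel])
    have esum : S.π ⟨_, hmemJ c⟩ + S.π ⟨w, S.A_le hw⟩ = S.π ⟨_, S.B_le hpB⟩ := by
      rw [e, S.π_mul, ew, add_comm (S.π ⟨w, _⟩), add_assoc, vadd_self, add_zero]
    refine ⟨esum ▸ ⟨_, hpB, rfl⟩, ?_⟩
    rw [esum]
    rw [e, S.π_mul, ew, q_add, hpol, add_zero] at hq0
    exact (eq_of_vadd hq0).symm
  let O := {v : ↥(S.img S.B) // q v = q (S.π ⟨w, S.A_le hw⟩)}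
  let key : C → O := fun c => ⟨⟨_, (himg c).1⟩, (himg c).2⟩
  let Φ : C ⧸ centralizer ({s} : Set C) → O × Bool := fun x =>
    (key x.out, decide (x.out * s * x.out⁻¹ = Function.invFun key (key x.out) * s *
      (Function.invFun key (key x.out))⁻¹))
  have hΦ : Function.Injective Φ := by
    intro x y h
    simp only [Φ, Prod.mk.injEq, decide_eq_decide] at h
    obtain ⟨h1, h2⟩ := h
    set r := Function.invFun key (key x.out) with hr
    have hr' : key r = key x.out := Function.invFun_eq ⟨_, rfl⟩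
    rw [← h1] at h2
    have hπeq : ∀ a b, key a = key b → S.π ⟨_, hmemJ a⟩ = S.π ⟨_, hmemJ b⟩ := fun a b h =>
      add_right_cancel (congrArg (fun o : O => (o.1 : V)) h)
    have e : x.out * s * x.out⁻¹ = y.out * s * y.out⁻¹ := by
      by_cases hc : x.out * s * x.out⁻¹ = r * s * r⁻¹
      · rw [hc, ← h2.1 hc]
      · have a1 : x.out * s * x.out⁻¹ = r * s * r⁻¹ * zc := (S.eq_of_π (hπeq _ _ hr')).resolve_left hc
        have a2 : y.out * s * y.out⁻¹ = r * s * r⁻¹ * zc :=
          (S.eq_of_π (hπeq _ _ (hr'.trans h1))).resolve_left fun k => hc (h2.2 k)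
        rw [a1, a2]
    rw [← x.out_eq', ← y.out_eq', QuotientGroup.eq, mem_centralizer_singleton_iff]
    calc x.out⁻¹ * y.out * s = x.out⁻¹ * (y.out * s * y.out⁻¹) * y.out := by group
      _ = x.out⁻¹ * (x.out * s * x.out⁻¹) * y.out := by rw [e]
      _ = s * (x.out⁻¹ * y.out) := by group
  have hle2 := Nat.card_le_card_of_injective Φ hΦ
  rw [← Subgroup.index_eq_card, Nat.card_prod, Nat.card_eq_fintype_card (α := Bool), Fintype.card_bool] at hle2
  have h36 : Nat.card O ≤ 36 := S.value_count _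
  omega

/-- No element outside `J` is moved only along `s` by the centraliser of `s`. -/
theorem false_of_fixed (hs1 : s ≠ 1) (hsz : s ≠ zc) {y : C} (hy : y * y ∈ J) (hyJ : y ∉ J)
    (hyf : ∀ c, c * s = s * c → c * y * c⁻¹ = y ∨ c * y * c⁻¹ = y * s) : False := by
  haveI : J.Normal := S.ker ▸ inferInstance
  have ht1 : S.ρ y ≠ 1 := fun h => hyJ (S.mem_J_iff.2 h)
  have ht2 : S.ρ y * S.ρ y = 1 := by rw [← map_mul]; exact S.mem_J_iff.1 hy
  set P := (centralizer ({S.ρ y} : Set SU4)).comap S.ρ with hP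
  have hPi : 45 ≤ P.index := by
    rw [hP, Subgroup.index_comap_of_surjective _ S.surj]
    exact index_invol ht2 ht1
  have hle : centralizer ({s} : Set C) ≤ P := fun c hc => by
    rw [hP, mem_comap, mem_centralizer_singleton_iff, ← map_mul, ← map_mul]
    rcases hyf c (mem_centralizer_singleton_iff.1 hc) with h | h
    · rw [mul_inv_eq_iff_eq_mul.1 h]
    · rw [mul_inv_eq_iff_eq_mul.1 h, map_mul, map_mul, S.mem_J_iff.1 hsJ, mul_one, ← map_mul]
  have hrel : 2 ≤ (centralizer ({s} : Set C)).relIndex P := by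
    have h0 : (centralizer ({s} : Set C)).relIndex P ≠ 0 := index_ne_zero_of_finite
    have h1 : (centralizer ({s} : Set C)).relIndex P ≠ 1 := fun h => by
      rw [relIndex_eq_one] at h
      refine ((S.π_ker ⟨s, hsJ⟩).1 (S.hnd _ fun v => ?_)).elim hs1 hsz
      obtain ⟨x, rfl⟩ := S.π_surj v
      have hxP : (x : C) ∈ P := by
        rw [hP, mem_comap, mem_centralizer_singleton_iff, S.mem_J_iff.1 x.2, one_mul, mul_one]
      exact (S.comm_iff ⟨s, hsJ⟩ x).2 (mem_centralizer_singleton_iff.1 (h hxP)).symm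
    omega
  have h90 : 90 ≤ (centralizer ({s} : Set C)).index := by
    rw [← relIndex_mul_index hle]
    exact Nat.mul_le_mul hrel hPi
  have := S.index_cent_le hs hsJ
  omega

end Setup

end CfsgLib.USixType
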