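import Cfsg.Agent.Lib.USixOuter.Setup
import Cfsg.Agent.Lib.USixOuter.SplitSetup

/-!
# The split case above an outer automorphism: the chart in the whole centraliser

The part of index two carries a split setup; the whole centraliser keeps both pieces and the quadratic form.
-/

set_option autoImplicit false
set_option linter.unusedSectionVars false
set_option linter.style.haveILetI false

namespace CfsgLib.USixOuter

open Cfsg Subgroup
open CfsgLib.USixType (Cz Setup)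
open CfsgLib.LargeFischer (vadd_self q_add eq_of_vadd z2_cases polar_self_zero q_zero)
open QuadraticMap (polar polar_add_left polar_add_right polar_comm)

variable {G : Type*} [Group G] [Finite G]

/-- A split setup in the part of index two. -/
structure SplitHalf (z : G) (C0 J : Subgroup G) (V : Type) [AddCommGroup V] [_root_.Module (ZMod 2) V]
    (q : QuadraticForm (ZMod 2) V) where
  o : Outer z C0 J
  hzC : z ∈ C0
  S : Setup (J.subgroupOf C0) (⟨z, hzC⟩ : ↥C0) q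

namespace SplitHalf

variable {z : G} {C0 J : Subgroup G} {V : Type} [AddCommGroup V] [_root_.Module (ZMod 2) V] [Finite V]
  {q : QuadraticForm (ZMod 2) V} (H : SplitHalf z C0 J V q)

include H

theorem zz : z * z = 1 := congrArg Subtype.val H.S.z_sq

theorem z_ne : z ≠ 1 := fun h => H.S.z_ne (Subtype.ext h)

theorem z_mem : z ∈ J := H.S.z_mem

theorem z_comm {c : G} (hc : c ∈ Cz z) : c * z = z * c := mem_centralizer_singleton_iff.1 hc

theorem J_le : J ≤ Cz z := H.o.J_le.trans H.o.le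

theorem conjJ {c a : G} (hc : c ∈ Cz z) (ha : a ∈ J) : c * a * c⁻¹ ∈ J := H.o.normJ c hc a ha

theorem index_two {c d : G} (hc : c ∈ Cz z) (hd : d ∈ Cz z) : c * d ∈ C0 ↔ (c ∈ C0 ↔ d ∈ C0) := by
  have hidx : (C0.subgroupOf (Cz z)).index = 2 := H.o.index
  have h := mul_mem_iff_of_index_two hidx (a := ⟨c, hc⟩) (b := ⟨d, hd⟩)
  simpa [mem_subgroupOf] using h

theorem exists_outer_elt : ∃ c ∈ Cz z, c ∉ C0 := by
  by_contra h
  push Not at h
  have hidx := H.o.index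
  rw [relIndex_eq_one.2 (show Cz z ≤ C0 from h)] at hidx
  omega

open scoped _root_.Classical in
/-- The chart. -/
noncomputable def pv (a : G) : V := if h : a ∈ J then H.S.π ⟨⟨a, H.o.J_le h⟩, h⟩ else 0

theorem pv_eq_π {a : G} (h : a ∈ J) : H.pv a = H.S.π ⟨⟨a, H.o.J_le h⟩, h⟩ := by
  rw [pv, dif_pos h]

theorem pv_coe (x : ↥(J.subgroupOf C0)) : H.pv ((x : ↥C0) : G) = H.S.π x := H.pv_eq_π x.2

theorem pv_mul {a b : G} (ha : a ∈ J) (hb : b ∈ J) : H.pv (a * b) = H.pv a + H.pv b := by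
  rw [H.pv_eq_π ha, H.pv_eq_π hb, H.pv_eq_π (mul_mem ha hb), ← H.S.π_mul]
  rfl

theorem pv_eq_zero {a : G} (ha : a ∈ J) : H.pv a = 0 ↔ a = 1 ∨ a = z := by
  rw [H.pv_eq_π ha, H.S.π_ker]
  exact or_congr ⟨fun h => congrArg Subtype.val h, fun h => Subtype.ext h⟩
    ⟨fun h => congrArg Subtype.val h, fun h => Subtype.ext h⟩

theorem pv_inv {a : G} (ha : a ∈ J) : H.pv a⁻¹ = H.pv a := by
  rw [H.pv_eq_π ha, H.pv_eq_π (inv_mem ha)]
  exact H.S.π_inv ⟨⟨a, H.o.J_le ha⟩, ha⟩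

theorem pv_eq {a b : G} (ha : a ∈ J) (hb : b ∈ J) (h : H.pv a = H.pv b) : a = b ∨ a = b * z := by
  rw [H.pv_eq_π ha, H.pv_eq_π hb] at h
  rcases H.S.eq_of_π h.symm with e | e
  · exact .inl (congrArg Subtype.val e)
  · exact .inr (congrArg Subtype.val e)

theorem pv_z : H.pv z = 0 := (H.pv_eq_zero H.z_mem).2 (.inr rfl)

theorem pv_surj (v : V) : ∃ a ∈ J, H.pv a = v := by
  obtain ⟨x, rfl⟩ := H.S.π_surj v
  exact ⟨_, x.2, H.pv_coe x⟩

theorem pv_sq {a : G} (ha : a ∈ J) : q (H.pv a) = 0 ↔ a * a = 1 := by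
  rw [H.pv_eq_π ha, H.S.sq_one_iff]
  exact ⟨fun h => congrArg Subtype.val h, fun h => Subtype.ext h⟩

theorem pv_comm {a b : G} (ha : a ∈ J) (hb : b ∈ J) : polar q (H.pv a) (H.pv b) = 0 ↔ a * b = b * a := by
  rw [H.pv_eq_π ha, H.pv_eq_π hb, H.S.comm_iff]
  exact ⟨fun h => congrArg Subtype.val h, fun h => Subtype.ext h⟩

theorem pv_conj0 {c a : G} (hc : c ∈ C0) (ha : a ∈ J) :
    H.pv (c * a * c⁻¹) = H.S.M.ρ (H.S.ρ ⟨c, hc⟩) (H.pv a) := by
  rw [H.pv_eq_π ha, H.pv_eq_π (H.conjJ (H.o.le hc) ha)]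
  exact H.S.π_act ⟨c, hc⟩ ⟨⟨a, H.o.J_le ha⟩, ha⟩ ⟨⟨_, _⟩, H.conjJ (H.o.le hc) ha⟩ rfl

/-- The small piece in the group. -/
def Asub : Subgroup G := H.S.A.map C0.subtype

/-- The large piece in the group. -/
def Bsub : Subgroup G := H.S.B.map C0.subtype

theorem A_le : H.Asub ≤ J := by
  rintro _ ⟨x, hx, rfl⟩
  exact H.S.A_le hx

theorem B_le : H.Bsub ≤ J := by
  rintro _ ⟨x, hx, rfl⟩
  exact H.S.B_le hx

theorem z_mem_A : z ∈ H.Asub := ⟨_, H.S.zA, rfl⟩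

theorem card_A : Nat.card ↥H.Asub = 8 := by
  rw [Asub, card_map_of_injective C0.subtype_injective, H.S.cardA]

theorem mem_A_iff {a : G} (ha : a ∈ J) : a ∈ H.Asub ↔ H.pv a ∈ H.S.img H.S.A := by
  constructor
  · rintro ⟨x, hx, rfl⟩
    exact ⟨⟨x, ha⟩, hx, (H.pv_coe ⟨x, ha⟩).symm⟩
  · rintro ⟨x, hx, e⟩
    rcases H.pv_eq ha x.2 (e.symm.trans (H.pv_coe x).symm) with h | h <;> rw [h]
    · exact ⟨_, hx, rfl⟩
    · exact mul_mem (⟨_, hx, rfl⟩ : ((x : ↥C0) : G) ∈ H.Asub) H.z_mem_A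

theorem mem_B_iff {a : G} (ha : a ∈ J) : a ∈ H.Bsub ↔ H.pv a ∈ H.S.img H.S.B := by
  constructor
  · rintro ⟨x, hx, rfl⟩
    exact ⟨⟨x, ha⟩, hx, (H.pv_coe ⟨x, ha⟩).symm⟩
  · rintro ⟨x, hx, e⟩
    rcases H.pv_eq ha x.2 (e.symm.trans (H.pv_coe x).symm) with h | h <;> rw [h]
    · exact ⟨_, hx, rfl⟩
    · exact mul_mem (⟨_, hx, rfl⟩ : ((x : ↥C0) : G) ∈ H.Bsub) (⟨_, H.S.zB, rfl⟩ : z ∈ H.Bsub)

theorem exists_A {v : V} (hv : v ∈ H.S.img H.S.A) : ∃ a ∈ H.Asub, H.pv a = v := by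
  obtain ⟨x, hx, rfl⟩ := hv
  exact ⟨_, ⟨_, hx, rfl⟩, H.pv_coe x⟩

theorem exists_B {v : V} (hv : v ∈ H.S.img H.S.B) : ∃ b ∈ H.Bsub, H.pv b = v := by
  obtain ⟨x, hx, rfl⟩ := hv
  exact ⟨_, ⟨_, hx, rfl⟩, H.pv_coe x⟩

theorem conjA0 {c a : G} (hc : c ∈ C0) (ha : a ∈ H.Asub) : c * a * c⁻¹ = a ∨ c * a * c⁻¹ = a * z := by
  obtain ⟨x, hx, rfl⟩ := ha
  exact (H.S.conjA ⟨c, hc⟩ x hx).imp (fun h => congrArg Subtype.val h) fun h => congrArg Subtype.val h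

/-- The whole centraliser keeps the small piece. -/
theorem conjA {c a : G} (hc : c ∈ Cz z) (ha : a ∈ H.Asub) : c * a * c⁻¹ ∈ H.Asub := by
  have hJ := H.conjJ hc (H.A_le ha)
  refine (H.mem_A_iff hJ).2 (H.S.fixed_mem_A fun γ => ?_)
  obtain ⟨⟨d, hd⟩, rfl⟩ := H.S.surj γ
  rw [← H.pv_conj0 hd hJ]
  have hd' : c⁻¹ * d * c ∈ C0 := by simpa using H.o.norm c⁻¹ (inv_mem hc) d hd
  rcases H.conjA0 hd' ha with e | e
  · rw [show d * (c * a * c⁻¹) * d⁻¹ = c * (c⁻¹ * d * c * a * (c⁻¹ * d * c)⁻¹) * c⁻¹ by group, e]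
  · rw [show d * (c * a * c⁻¹) * d⁻¹ = c * (c⁻¹ * d * c * a * (c⁻¹ * d * c)⁻¹) * c⁻¹ by group, e,
      show c * (a * z) * c⁻¹ = c * a * c⁻¹ * (c * z * c⁻¹) by group, H.z_comm hc, mul_inv_cancel_right,
      H.pv_mul hJ H.z_mem, H.pv_z, add_zero]

theorem mem_B_of_comm {a : G} (ha : a ∈ J) (h : ∀ x ∈ H.Asub, a * x = x * a) : a ∈ H.Bsub := by
  refine (H.mem_B_iff ha).2 ?_
  obtain ⟨x, hx, y, hy, e⟩ := H.S.exists_parts (H.pv a)
  have hx0 : x = 0 := H.S.A_nondeg x hx fun w hw => by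
    obtain ⟨b, hb, rfl⟩ := H.exists_A hw
    have h1 : polar q (H.pv a) (H.pv b) = 0 := (H.pv_comm ha (H.A_le hb)).2 (h b hb)
    rw [e, polar_add_left, polar_comm q y, H.S.A_perp_B hw hy, add_zero] at h1
    exact h1
  rw [e, hx0, zero_add]
  exact hy

theorem comm_A_B {a b : G} (ha : a ∈ H.Asub) (hb : b ∈ H.Bsub) : a * b = b * a := by
  obtain ⟨x, hx, rfl⟩ := ha
  obtain ⟨y, hy, rfl⟩ := hb
  exact congrArg Subtype.val (H.S.A_B x hx y hy)

/-- The whole centraliser keeps the large piece. -/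
theorem conjB {c b : G} (hc : c ∈ Cz z) (hb : b ∈ H.Bsub) : c * b * c⁻¹ ∈ H.Bsub := by
  refine H.mem_B_of_comm (H.conjJ hc (H.B_le hb)) fun x hx => ?_
  have hx' := H.conjA (inv_mem hc) hx
  rw [inv_inv] at hx'
  have h := H.comm_A_B hx' hb
  calc c * b * c⁻¹ * x = c * (b * (c⁻¹ * x * c)) * c⁻¹ := by group
    _ = c * (c⁻¹ * x * c * b) * c⁻¹ := by rw [h]
    _ = x * (c * b * c⁻¹) := by group

/-- The action of the whole centraliser. -/
noncomputable def tw (c : G) (v : V) : V := H.pv (c * (H.pv_surj v).choose * c⁻¹)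

theorem tw_pv {c a : G} (hc : c ∈ Cz z) (ha : a ∈ J) : H.tw c (H.pv a) = H.pv (c * a * c⁻¹) := by
  obtain ⟨hb, e⟩ := (H.pv_surj (H.pv a)).choose_spec
  unfold tw
  generalize (H.pv_surj (H.pv a)).choose = b at hb e ⊢
  rcases H.pv_eq hb ha e with h | h
  · rw [h]
  · rw [h, show c * (a * z) * c⁻¹ = c * a * c⁻¹ * (c * z * c⁻¹) by group, H.z_comm hc, mul_inv_cancel_right,
      H.pv_mul (H.conjJ hc ha) H.z_mem, H.pv_z, add_zero]

theorem tw_add {c : G} (hc : c ∈ Cz z) (u v : V) : H.tw c (u + v) = H.tw c u + H.tw c v := by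
  obtain ⟨a, ha, rfl⟩ := H.pv_surj u
  obtain ⟨b, hb, rfl⟩ := H.pv_surj v
  rw [← H.pv_mul ha hb, H.tw_pv hc (mul_mem ha hb), H.tw_pv hc ha, H.tw_pv hc hb,
    ← H.pv_mul (H.conjJ hc ha) (H.conjJ hc hb)]
  congr 1
  group

theorem tw_tw {c d : G} (hc : c ∈ Cz z) (hd : d ∈ Cz z) (v : V) : H.tw c (H.tw d v) = H.tw (c * d) v := by
  obtain ⟨a, ha, rfl⟩ := H.pv_surj v
  rw [H.tw_pv hd ha, H.tw_pv hc (H.conjJ hd ha), H.tw_pv (mul_mem hc hd) ha]
  congr 1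
  group

theorem tw_zero_one {c : G} (hc : c ∈ C0) (v : V) : H.tw c v = H.S.M.ρ (H.S.ρ ⟨c, hc⟩) v := by
  obtain ⟨a, ha, rfl⟩ := H.pv_surj v
  rw [H.tw_pv (H.o.le hc) ha, H.pv_conj0 hc ha]

theorem tw_fixA {c : G} (hc : c ∈ C0) {v : V} (hv : v ∈ H.S.img H.S.A) : H.tw c v = v := by
  rw [H.tw_zero_one hc, H.S.img_fixed _ hv]

theorem tw_memA {c : G} (hc : c ∈ Cz z) {v : V} (hv : v ∈ H.S.img H.S.A) : H.tw c v ∈ H.S.img H.S.A := by
  obtain ⟨a, ha, rfl⟩ := H.exists_A hv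
  rw [H.tw_pv hc (H.A_le ha)]
  exact (H.mem_A_iff (H.conjJ hc (H.A_le ha))).1 (H.conjA hc ha)

theorem tw_memB {c : G} (hc : c ∈ Cz z) {v : V} (hv : v ∈ H.S.img H.S.B) : H.tw c v ∈ H.S.img H.S.B := by
  obtain ⟨a, ha, rfl⟩ := H.exists_B hv
  rw [H.tw_pv hc (H.B_le ha)]
  exact (H.mem_B_iff (H.conjJ hc (H.B_le ha))).1 (H.conjB hc ha)

theorem tw_q {c : G} (hc : c ∈ Cz z) (v : V) : q (H.tw c v) = q v := by
  obtain ⟨a, ha, rfl⟩ := H.pv_surj v
  rw [H.tw_pv hc ha]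
  have key : q (H.pv (c * a * c⁻¹)) = 0 ↔ q (H.pv a) = 0 := by
    rw [H.pv_sq (H.conjJ hc ha), H.pv_sq ha,
      show c * a * c⁻¹ * (c * a * c⁻¹) = c * (a * a) * c⁻¹ by group, conj_eq_one_iff]
  rcases z2_cases (q (H.pv (c * a * c⁻¹))) with h1 | h1 <;> rcases z2_cases (q (H.pv a)) with h2 | h2
  · rw [h1, h2]
  · exact absurd (key.1 h1) (by rw [h2]; exact one_ne_zero)
  · exact absurd (key.2 h2) (by rw [h1]; exact one_ne_zero)
  · rw [h1, h2]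

theorem tw_polar {c : G} (hc : c ∈ Cz z) (u v : V) : polar q (H.tw c u) (H.tw c v) = polar q u v := by
  simp only [QuadraticMap.polar, ← H.tw_add hc, H.tw_q hc]

theorem mem_of_tw_id {c : G} (hc : c ∈ Cz z) (h : ∀ v, H.tw c v = v) : c ∈ J :=
  H.o.faithful c hc fun x hx => H.pv_eq (H.conjJ hc hx) hx (by rw [← H.tw_pv hc hx, h])

/-- Four vectors make up the image of the small piece. -/
theorem A_cases {v w x : V} (hv : v ∈ H.S.img H.S.A) (hw : w ∈ H.S.img H.S.A) (hx : x ∈ H.S.img H.S.A)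
    (hv0 : v ≠ 0) (hw0 : w ≠ 0) (hvw : v ≠ w) : x = 0 ∨ x = v ∨ x = w ∨ x = v + w := by
  classical
  by_contra h
  simp only [not_or] at h
  obtain ⟨h1, h2, h3, h4⟩ := h
  have hA : Nat.card ↥(H.S.img H.S.A) = 4 := by
    have := H.S.card_img H.S.A_le H.S.zA
    rw [H.S.cardA] at this
    omega
  have hs : ({x, 0, v, w, v + w} : Finset V).card ≤ 4 := by
    rw [← hA, ← Nat.card_eq_finsetCard]
    refine Nat.card_le_card_of_injective (fun y => (⟨y.1, ?_⟩ : ↥(H.S.img H.S.A)))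
      (fun a b e => Subtype.ext (congrArg (fun t : ↥(H.S.img H.S.A) => (t : V)) e))
    have hy := y.2
    simp only [Finset.mem_insert, Finset.mem_singleton] at hy
    rcases hy with e | e | e | e | e <;> rw [e]
    exacts [hx, zero_mem _, hv, hw, add_mem hv hw]
  have e1 : v + w ≠ 0 := fun e => hvw (eq_of_vadd e)
  rw [Finset.card_insert_of_notMem (by simp [h1, h2, h3, h4]),
    Finset.card_insert_of_notMem (by simp [hv0.symm, hw0.symm, e1.symm]),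
    Finset.card_insert_of_notMem (by simp [hvw, hw0]), Finset.card_insert_of_notMem (by simp [hv0]),
    Finset.card_singleton] at hs
  omega

end SplitHalf

end CfsgLib.USixOuter
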