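import Cfsg.Agent.Lib.USixOuter.SplitFrame
import Cfsg.Agent.Lib.LargeExtra.Automizer

/-!
# `z` is weakly closed in `J` in the split case above an outer automorphism

For `s = gzg⁻¹` in `J` and `u = g⁻¹zg`: an element of the small piece centralising `u` gives an element `y` of
the other frame which the centraliser of `s` moves only along `s`.  Inside the part of index two this contradicts
the number of conjugates of `s`; outside it, `y` pins the point of `s` so far that the other frame is too small.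
-/

set_option autoImplicit false
set_option linter.unusedSectionVars false
set_option linter.style.haveILetI false

namespace CfsgLib.USixOuter

open Cfsg Subgroup CfsgLib.LargeExtra
open CfsgLib.USixType (Cz Setup)
open CfsgLib.LargeFischer (vadd_self q_add eq_of_vadd z2_cases polar_self_zero q_zero)
open QuadraticMap (polar polar_add_left polar_add_right polar_comm)

namespace SplitHalf

variable {G : Type*} [Group G] [Finite G] {z : G} {C0 J : Subgroup G} {V : Type} [AddCommGroup V]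
  [_root_.Module (ZMod 2) V] [Finite V] {q : QuadraticForm (ZMod 2) V} (H : SplitHalf z C0 J V q)

include H

theorem pairHyp {g : G} (hs : g * z * g⁻¹ ∈ J) (hne : g * z * g⁻¹ ≠ z) : PairHyp J z g := by
  refine ⟨H.o.extra, H.o.centre, H.o.ord, H.o.self, fun c hc => mem_normalizer_iff.2 fun x => ?_, hs, hne⟩
  refine ⟨fun hx => H.conjJ hc hx, fun hx => ?_⟩
  have h1 := H.conjJ (inv_mem hc) hx
  rwa [show c⁻¹ * (c * x * c⁻¹) * c⁻¹⁻¹ = x by group] at h1

/-- Two cosets cover a group cut in two. -/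
theorem card_le_two {L M : Subgroup G} (_hML : M ≤ L) (h : ∀ a ∈ L, a ∉ M → ∀ b ∈ L, b ∉ M → a⁻¹ * b ∈ M) :
    Nat.card ↥L ≤ 2 * Nat.card ↥M := by
  classical
  by_cases hall : ∀ a ∈ L, a ∈ M
  · have := card_le_of_le (show L ≤ M from hall)
    omega
  push Not at hall
  obtain ⟨a, ha, haM⟩ := hall
  let Φ : ↥L → Bool × ↥M := fun b =>
    if hb : (b : G) ∈ M then (false, ⟨b, hb⟩) else (true, ⟨a⁻¹ * b, h a ha haM b b.2 hb⟩)
  have hΦ : Function.Injective Φ := by
    intro b c e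
    simp only [Φ] at e
    split_ifs at e with hb hc hc
    · exact Subtype.ext (congrArg (fun p : Bool × ↥M => (p.2 : G)) e)
    · simp at e
    · simp at e
    · exact Subtype.ext (mul_left_cancel (congrArg (fun p : Bool × ↥M => (p.2 : G)) e))
  have := Nat.card_le_card_of_injective Φ hΦ
  rwa [Nat.card_prod, Nat.card_eq_fintype_card (α := Bool), Fintype.card_bool] at this

/-- A vector orthogonal to all vectors orthogonal to `v` is `0` or `v`. -/
theorem eq_or_eq {v x : V} (hv : v ≠ 0) (h : ∀ y, polar q v y = 0 → polar q x y = 0) : x = 0 ∨ x = v := by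
  obtain ⟨w0, hw0⟩ : ∃ w, polar q v w = 1 := by
    by_contra hc
    simp only [not_exists] at hc
    exact hv (H.S.hnd _ fun w => (z2_cases _).resolve_right (hc w))
  have hflip : ∀ y, polar q v y = 1 → polar q x y = polar q x w0 := fun y hy => by
    have h' := h (y + w0) (by rw [polar_add_right, hy, hw0]; rfl)
    rw [polar_add_right] at h'
    exact eq_of_vadd h'
  rcases z2_cases (polar q x w0) with h0 | h0
  · left
    refine H.S.hnd _ fun y => ?_
    rcases z2_cases (polar q v y) with h1 | h1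
    · exact h y h1
    · rw [hflip y h1, h0]
  · right
    refine eq_of_vadd (H.S.hnd _ fun y => ?_)
    rw [polar_add_left]
    rcases z2_cases (polar q v y) with h1 | h1
    · rw [h1, h y h1, add_zero]
    · rw [h1, hflip y h1, h0]; rfl

section

variable {g : G} (hs : g * z * g⁻¹ ∈ J) (hne : g * z * g⁻¹ ≠ z)
include hs hne

theorem u_mem : g⁻¹ * z * g ∈ J := PairHyp.mem_map_iff.1 (H.pairHyp hs hne).automizer.2

theorem u_ne : g⁻¹ * z * g ≠ z := fun e => hne (by
  calc g * z * g⁻¹ = g * (g⁻¹ * z * g) * g⁻¹ := by rw [e]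
    _ = z := by group)

theorem pv_s_ne : H.pv (g * z * g⁻¹) ≠ 0 := fun e =>
  ((H.pv_eq_zero hs).1 e).elim (H.pairHyp hs hne).x_ne_one hne

theorem q_s : q (H.pv (g * z * g⁻¹)) = 0 := (H.pv_sq hs).2 (H.pairHyp hs hne).xx

theorem pv_u_ne : H.pv (g⁻¹ * z * g) ≠ 0 := fun e => by
  rcases (H.pv_eq_zero (H.u_mem hs hne)).1 e with h | h
  · refine H.z_ne ?_
    calc z = g * (g⁻¹ * z * g) * g⁻¹ := by group
      _ = 1 := by rw [h]; group
  · exact H.u_ne hs hne h

theorem back {c : G} (hc : c ∈ Cz z) (hcs : c * (g * z * g⁻¹) = g * z * g⁻¹ * c) :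
    g⁻¹ * c * g ∈ Cz z ∧ g⁻¹ * c * g * (g⁻¹ * z * g) = g⁻¹ * z * g * (g⁻¹ * c * g) := by
  refine ⟨mem_centralizer_singleton_iff.2 ?_, ?_⟩
  · calc g⁻¹ * c * g * z = g⁻¹ * (c * (g * z * g⁻¹)) * g := by group
      _ = z * (g⁻¹ * c * g) := by rw [hcs]; group
  · calc g⁻¹ * c * g * (g⁻¹ * z * g) = g⁻¹ * (c * z) * g := by group
      _ = _ := by rw [H.z_comm hc]; group

theorem fwd {a : G} (hau : a * (g⁻¹ * z * g) = g⁻¹ * z * g * a) : g * a * g⁻¹ ∈ Cz z :=
  mem_centralizer_singleton_iff.2 (by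
    calc g * a * g⁻¹ * z = g * (a * (g⁻¹ * z * g)) * g⁻¹ := by group
      _ = z * (g * a * g⁻¹) := by rw [hau]; group)

/-- A fixed element of the small piece gives an element moved only along `s`. -/
theorem moved {a : G} (ha : a ∈ H.Asub) {c : G} (hc : c ∈ C0) (hcs : c * (g * z * g⁻¹) = g * z * g⁻¹ * c)
    (hfix : ∀ d ∈ Cz z, d * (g⁻¹ * z * g) = g⁻¹ * z * g * d → g * d * g⁻¹ ∈ C0 → H.pv (d * a * d⁻¹) = H.pv a) :
    c * (g * a * g⁻¹) * c⁻¹ = g * a * g⁻¹ ∨ c * (g * a * g⁻¹) * c⁻¹ = g * a * g⁻¹ * (g * z * g⁻¹) := by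
  obtain ⟨h1, h2⟩ := H.back hs hne (H.o.le hc) hcs
  have h3 := hfix _ h1 h2 (by rwa [show g * (g⁻¹ * c * g) * g⁻¹ = c by group])
  have e : c * (g * a * g⁻¹) * c⁻¹ = g * (g⁻¹ * c * g * a * (g⁻¹ * c * g)⁻¹) * g⁻¹ := by group
  rcases H.pv_eq (H.conjJ h1 (H.A_le ha)) (H.A_le ha) h3 with h | h <;> rw [e, h]
  · exact .inl rfl
  · exact .inr (by group)

/-- The element cannot lie in the part of index two. -/
theorem false_of_inner {a : G} (ha : a ∈ H.Asub) (ha0 : H.pv a ≠ 0) (hau : H.pv a ≠ H.pv (g⁻¹ * z * g))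
    (hK : g * a * g⁻¹ ∈ C0)
    (hfix : ∀ d ∈ Cz z, d * (g⁻¹ * z * g) = g⁻¹ * z * g * d → g * d * g⁻¹ ∈ C0 → H.pv (d * a * d⁻¹) = H.pv a) :
    False := by
  have hh := H.pairHyp hs hne
  have hmove := fun c (hc : c ∈ C0) hcs => H.moved hs hne ha hc hcs hfix
  set s : G := g * z * g⁻¹ with hsd
  set y : G := g * a * g⁻¹ with hy
  have hyy : y * y = 1 ∨ y * y = s := by
    have e : y * y = g * (a * a) * g⁻¹ := by rw [hy]; group
    rcases hh.sq_cases (H.A_le ha) with h | h <;> rw [e, h]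
    · left; group
    · exact .inr rfl
  have hyJ : y ∉ J := fun hyJ => by
    have hperp : ∀ v, polar q (H.pv s) v = 0 → polar q (H.pv y) v = 0 := by
      intro v hv
      obtain ⟨x, hx, rfl⟩ := H.pv_surj v
      refine (H.pv_comm hyJ hx).2 ?_
      have hxs : x * s = s * x := ((H.pv_comm hs hx).1 hv).symm
      rcases hmove x (H.o.J_le hx) hxs with h | h
      · exact (mul_inv_eq_iff_eq_mul.1 h).symm
      · exfalso
        rcases hh.comm_cases hx hyJ with h' | h'
        · rw [h, mul_inv_eq_one] at h'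
          exact hh.x_ne_one (mul_eq_left.1 h')
        · rw [h, show y * s = s * y from ?_, mul_inv_cancel_right] at h'
          · exact hne h'
          · exact hh.map_comm (PairHyp.mem_map_iff.2 (by
              rw [hy, show g⁻¹ * (g * a * g⁻¹) * g = a by group]; exact H.A_le ha))
    have hinv : a = g⁻¹ * y * g := by rw [hy]; group
    rcases H.eq_or_eq (H.pv_s_ne hs hne) hperp with h | h
    · rcases (H.pv_eq_zero hyJ).1 h with e | e <;> rw [e] at hinv
      · exact ha0 ((H.pv_eq_zero (H.A_le ha)).2 (.inl (by rw [hinv]; group)))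
      · exact hau (by rw [hinv])
    · rcases H.pv_eq hyJ hs h with e | e <;> rw [e] at hinv
      · refine ha0 ((H.pv_eq_zero (H.A_le ha)).2 (.inr ?_))
        rw [hinv, hsd]; group
      · refine hau ?_
        rw [hinv, show g⁻¹ * (s * z) * g = z * (g⁻¹ * z * g) by rw [hsd]; group,
          H.pv_mul H.z_mem (H.u_mem hs hne), H.pv_z, zero_add]
  refine H.S.false_of_fixed (s := ⟨s, H.o.J_le hs⟩) (Subtype.ext hh.xx) hs
    (fun h => hh.x_ne_one (congrArg Subtype.val h)) (fun h => hne (congrArg Subtype.val h)) (y := ⟨y, hK⟩) ?_ hyJ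
    fun c hc => ?_
  · rcases hyy with e | e
    · show y * y ∈ J
      rw [e]; exact one_mem _
    · show y * y ∈ J
      rw [e]; exact hs
  · exact (hmove c c.2 (congrArg Subtype.val hc)).imp (fun h => Subtype.ext h) fun h => Subtype.ext h

theorem A_not_le {v : V} (hv : v ∈ H.S.img H.S.A) : ∃ x ∈ H.S.img H.S.A, x ≠ 0 ∧ x ≠ v := by
  classical
  by_contra h
  push Not at h
  have hA : Nat.card ↥(H.S.img H.S.A) = 4 := by
    have := H.S.card_img H.S.A_le H.S.zA
    rw [H.S.cardA] at this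
    omega
  let Φ : ↥(H.S.img H.S.A) → Bool := fun x => decide ((x : V) = 0)
  have hΦ : Function.Injective Φ := fun x x' e => by
    simp only [Φ, decide_eq_decide] at e
    by_cases h0 : (x : V) = 0
    · exact Subtype.ext (h0.trans (e.1 h0).symm)
    · exact Subtype.ext ((h x x.2 h0).trans (h x' x'.2 fun h' => h0 (e.2 h')).symm)
  have := Nat.card_le_card_of_injective Φ hΦ
  rw [hA, Nat.card_eq_fintype_card (α := Bool), Fintype.card_bool] at this
  omega

/-- The small piece does not centralise `u`. -/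
theorem false_of_comm (hall : ∀ a ∈ H.Asub, a * (g⁻¹ * z * g) = g⁻¹ * z * g * a) : False := by
  have hh := H.pairHyp hs hne
  set u : G := g⁻¹ * z * g with hud
  have huA : H.pv u ∉ H.S.img H.S.A := fun hu => H.pv_u_ne hs hne (H.S.A_nondeg _ hu fun w hw => by
    obtain ⟨b, hb, rfl⟩ := H.exists_A hw
    exact (H.pv_comm (H.u_mem hs hne) (H.A_le hb)).2 (hall b hb).symm)
  have hne_u : ∀ a ∈ H.Asub, H.pv a ≠ H.pv u := fun a ha e => huA (e ▸ (H.mem_A_iff (H.A_le ha)).1 ha)
  by_cases hK : ∀ a ∈ H.Asub, g * a * g⁻¹ ∈ C0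
  · -- an element fixed by everything
    obtain ⟨v, hv, hv0, hfix⟩ : ∃ v ∈ H.S.img H.S.A, v ≠ 0 ∧ ∀ c ∈ Cz z, H.tw c v = v := by
      obtain ⟨c1, hc1, hc1'⟩ := H.exists_outer_elt
      obtain ⟨v, hv, hv0, -⟩ := H.A_not_le hs hne (zero_mem (H.S.img H.S.A))
      have key : ∀ w ∈ H.S.img H.S.A, H.tw c1 w = w → ∀ c ∈ Cz z, H.tw c w = w := by
        intro w hw hw1 c hc
        by_cases hc0 : c ∈ C0
        · exact H.tw_fixA hc0 hw
        · have h1 : c1⁻¹ * c ∈ C0 := (H.index_two (inv_mem hc1) hc).2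
            ⟨fun h => absurd (inv_mem_iff.1 h) hc1', fun h => absurd h hc0⟩
          rw [show c = c1 * (c1⁻¹ * c) by group, ← H.tw_tw hc1 (H.o.le h1), H.tw_fixA h1 hw, hw1]
      by_cases h : H.tw c1 v = v
      · exact ⟨v, hv, hv0, key v hv h⟩
      · refine ⟨v + H.tw c1 v, add_mem hv (H.tw_memA hc1 hv), fun e => h (eq_of_vadd e).symm,
          key _ (add_mem hv (H.tw_memA hc1 hv)) ?_⟩
        have h2 : c1 * c1 ∈ C0 := (H.index_two hc1 hc1).2 Iff.rfl
        rw [H.tw_add hc1, H.tw_tw hc1 hc1, H.tw_fixA h2 hv, add_comm]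
    obtain ⟨a, ha, rfl⟩ := H.exists_A hv
    exact H.false_of_inner hs hne ha hv0 (hne_u a ha) (hK a ha) fun d hd _ _ => by
      rw [← H.tw_pv hd (H.A_le ha), hfix d hd]
  push Not at hK
  obtain ⟨a0, ha0, hK0⟩ := hK
  have hcz : ∀ a ∈ H.Asub, g * a * g⁻¹ ∈ Cz z := fun a ha => H.fwd hs hne (hall a ha)
  have hKz : ∀ {a : G}, g * a * g⁻¹ ∈ C0 → g * (a * z) * g⁻¹ ∈ C0 := fun {a} h => by
    rw [show g * (a * z) * g⁻¹ = g * a * g⁻¹ * (g * z * g⁻¹) by group]
    exact mul_mem h (H.o.J_le hs)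
  have hKmul : ∀ a ∈ H.Asub, ∀ b ∈ H.Asub, (g * (a * b) * g⁻¹ ∈ C0 ↔ (g * a * g⁻¹ ∈ C0 ↔ g * b * g⁻¹ ∈ C0)) :=
    fun a ha b hb => by
      rw [show g * (a * b) * g⁻¹ = g * a * g⁻¹ * (g * b * g⁻¹) by group]
      exact H.index_two (hcz a ha) (hcz b hb)
  have hp0 : H.pv a0 ≠ 0 := fun e => by
    rcases (H.pv_eq_zero (H.A_le ha0)).1 e with h | h <;> rw [h] at hK0
    · exact hK0 (by simp)
    · exact hK0 (H.o.J_le hs)
  obtain ⟨a, ha, hKa, hpa, hpa'⟩ : ∃ a ∈ H.Asub, g * a * g⁻¹ ∈ C0 ∧ H.pv a ≠ 0 ∧ H.pv a ≠ H.pv a0 := by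
    obtain ⟨x, hx, hx0, hxv⟩ := H.A_not_le hs hne ((H.mem_A_iff (H.A_le ha0)).1 ha0)
    obtain ⟨b, hb, rfl⟩ := H.exists_A hx
    by_cases h : g * b * g⁻¹ ∈ C0
    · exact ⟨b, hb, h, hx0, hxv⟩
    · refine ⟨b * a0, mul_mem hb ha0, (hKmul b hb a0 ha0).2 ⟨fun h' => absurd h' h, fun h' => absurd h' hK0⟩, ?_, ?_⟩
      · rw [H.pv_mul (H.A_le hb) (H.A_le ha0)]
        exact fun e => hxv (eq_of_vadd e)
      · rw [H.pv_mul (H.A_le hb) (H.A_le ha0)]
        exact fun e => hx0 (add_eq_right.1 e)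
  refine H.false_of_inner hs hne ha hpa (hne_u a ha) hKa fun d hd hdu hdK => ?_
  have hy := H.conjA hd ha
  have hyK : g * (d * a * d⁻¹) * g⁻¹ ∈ C0 := by
    rw [show g * (d * a * d⁻¹) * g⁻¹ = g * d * g⁻¹ * (g * a * g⁻¹) * (g * d * g⁻¹)⁻¹ by group]
    exact mul_mem (mul_mem hdK hKa) (inv_mem hdK)
  rcases H.A_cases ((H.mem_A_iff (H.A_le ha)).1 ha) ((H.mem_A_iff (H.A_le ha0)).1 ha0)
    ((H.mem_A_iff (H.A_le hy)).1 hy) hpa hp0 hpa' with e | e | e | e
  · exfalso
    rw [← H.tw_pv hd (H.A_le ha)] at e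
    refine hpa ?_
    calc H.pv a = H.tw d⁻¹ (H.tw d (H.pv a)) := by
          rw [H.tw_tw (inv_mem hd) hd, inv_mul_cancel, H.tw_pv (one_mem _) (H.A_le ha)]; simp
      _ = 0 := by
          rw [e, show (0 : V) = H.pv 1 from ((H.pv_eq_zero (one_mem _)).2 (.inl rfl)).symm,
            H.tw_pv (inv_mem hd) (one_mem _)]
          simp
  · exact e
  · exfalso
    rcases H.pv_eq (H.A_le hy) (H.A_le ha0) e with h | h <;> rw [h] at hyK
    · exact hK0 hyK
    · have := hKz hyK
      rw [mul_assoc a0, H.zz, mul_one] at this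
      exact hK0 this
  · exfalso
    rw [← H.pv_mul (H.A_le ha) (H.A_le ha0)] at e
    have hno : g * (a * a0) * g⁻¹ ∉ C0 := fun h => hK0 (((hKmul a ha a0 ha0).1 h).1 hKa)
    rcases H.pv_eq (H.A_le hy) (mul_mem (H.A_le ha) (H.A_le ha0)) e with h | h <;> rw [h] at hyK
    · exact hno hyK
    · have := hKz hyK
      rw [mul_assoc (a * a0), H.zz, mul_one] at this
      exact hno this

/-- The part of the other frame inside `C0` is large. -/
theorem card_frame : 128 ≤ Nat.card ↥(J.map (MulAut.conj g).toMonoidHom ⊓ C0 : Subgroup G) := by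
  have hh := H.pairHyp hs hne
  let uJ : ↥J := ⟨g⁻¹ * z * g, H.u_mem hs hne⟩
  set K : Subgroup ↥J := centralizer ({uJ} : Set ↥J) with hKd
  have hK : 256 ≤ Nat.card ↥K := by
    have h := CfsgLib.LargeExtra.card_le_two_mul_centralizer H.o.extra uJ ⊤
    rw [top_inf_eq, card_top, H.o.cardJ, ← hKd] at h
    omega
  set L : Subgroup G := (K.map J.subtype).map (MulAut.conj g).toMonoidHom with hL
  have hLc : Nat.card ↥L = Nat.card ↥K := by
    rw [hL, card_map_of_injective (MulEquiv.injective _), card_map_of_injective J.subtype_injective]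
  have hLle : L ≤ J.map (MulAut.conj g).toMonoidHom ⊓ Cz z := by
    rintro _ ⟨_, ⟨x, hx, rfl⟩, rfl⟩
    exact ⟨mem_map_of_mem _ x.2, H.fwd hs hne (congrArg Subtype.val (mem_centralizer_singleton_iff.1 hx))⟩
  have h2 : Nat.card ↥L ≤ 2 * Nat.card ↥(L ⊓ C0 : Subgroup G) := H.card_le_two inf_le_left
    fun a ha haM b hb hbM => mem_inf.2 ⟨mul_mem (inv_mem ha) hb, (H.index_two (inv_mem (hLle ha).2) (hLle hb).2).2
      ⟨fun h => absurd (mem_inf.2 ⟨ha, (inv_mem_iff (H := C0)).1 h⟩) haM, fun h => absurd (mem_inf.2 ⟨hb, h⟩) hbM⟩⟩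
  have h3 := card_le_of_le (show (L ⊓ C0 : Subgroup G) ≤ J.map (MulAut.conj g).toMonoidHom ⊓ C0 from
    inf_le_inf_right C0 (hLle.trans inf_le_left))
  omega

theorem card_E : Nat.card ↥(J ⊓ J.map (MulAut.conj g).toMonoidHom : Subgroup G) ≤ 32 := by
  have hh := H.pairHyp hs hne
  set E : Subgroup G := J ⊓ J.map (MulAut.conj g).toMonoidHom with hEd
  have hEle : E ≤ C0 := inf_le_left.trans H.o.J_le
  have hle : E.subgroupOf C0 ≤ J.subgroupOf C0 := comap_mono inf_le_left
  have h1 := H.S.card_img hle (show (⟨z, H.hzC⟩ : ↥C0) ∈ E.subgroupOf C0 from hh.z_mem_E)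
  have h2 := H.S.card_iso_le (H.S.img (E.subgroupOf C0)) fun v hv w hw => by
    obtain ⟨x, hx, rfl⟩ := hv
    obtain ⟨y, hy, rfl⟩ := hw
    exact (H.S.comm_iff x y).2 (Subtype.ext (hh.E_comm _ hx _ hy))
  rw [Nat.card_congr (subgroupOfEquivOfLe hEle).toEquiv] at h1
  omega

theorem sq_mem {r : G} (hr : r ∈ J.map (MulAut.conj g).toMonoidHom) : r * r ∈ J := by
  rcases (H.pairHyp hs hne).map_sq_cases hr with e | e <;> rw [e]
  · exact one_mem _
  · exact hs

/-- `u` is not in the small piece. -/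
theorem false_of_memA (hu : g⁻¹ * z * g ∈ H.Asub) : False := by
  classical
  have hh := H.pairHyp hs hne
  haveI : Finite ↥C0 := inferInstance
  set u : G := g⁻¹ * z * g with hud
  set s : G := g * z * g⁻¹ with hsd
  set Cu : Subgroup G := C0 ⊓ centralizer ({u} : Set G) with hCu
  have h1 : Nat.card ↥C0 ≤ 2 * Nat.card ↥Cu := H.card_le_two inf_le_left fun a ha haM b hb hbM => by
    have key : ∀ c ∈ C0, c ∉ Cu → c * u * c⁻¹ = u * z := fun c hc hcM =>
      (H.conjA0 hc hu).resolve_left fun e => hcM ⟨hc, mem_centralizer_singleton_iff.2 (mul_inv_eq_iff_eq_mul.1 e)⟩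
    refine mem_inf.2 ⟨mul_mem (inv_mem ha) hb, mem_centralizer_singleton_iff.2 (mul_inv_eq_iff_eq_mul.1 ?_)⟩
    calc a⁻¹ * b * u * (a⁻¹ * b)⁻¹ = a⁻¹ * (b * u * b⁻¹) * a := by group
      _ = a⁻¹ * (a * u * a⁻¹) * a := by rw [key a ha haM, key b hb hbM]
      _ = u := by group
  set L1 : Subgroup G := Cu.map (MulAut.conj g).toMonoidHom with hL1
  have hL1le : L1 ≤ Cz z ⊓ centralizer ({s} : Set G) := by
    rintro _ ⟨c, hc, rfl⟩
    refine ⟨H.fwd hs hne (mem_centralizer_singleton_iff.1 (mem_inf.1 hc).2), mem_centralizer_singleton_iff.2 ?_⟩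
    show g * c * g⁻¹ * s = s * (g * c * g⁻¹)
    calc g * c * g⁻¹ * s = g * (c * z) * g⁻¹ := by rw [hsd]; group
      _ = _ := by rw [H.z_comm (H.o.le (mem_inf.1 hc).1), hsd]; group
  have h2 : Nat.card ↥L1 ≤ 2 * Nat.card ↥(L1 ⊓ C0 : Subgroup G) := H.card_le_two inf_le_left
    fun a ha haM b hb hbM => mem_inf.2 ⟨mul_mem (inv_mem ha) hb, (H.index_two (inv_mem (hL1le ha).1) (hL1le hb).1).2
      ⟨fun h => absurd (mem_inf.2 ⟨ha, (inv_mem_iff (H := C0)).1 h⟩) haM, fun h => absurd (mem_inf.2 ⟨hb, h⟩) hbM⟩⟩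
  have hL1c : Nat.card ↥L1 = Nat.card ↥Cu := by rw [hL1, card_map_of_injective (MulEquiv.injective _)]
  set D : Subgroup ↥C0 := centralizer ({⟨s, H.o.J_le hs⟩} : Set ↥C0) with hD
  have h3 : Nat.card ↥(L1 ⊓ C0 : Subgroup G) ≤ Nat.card ↥D := by
    refine Nat.card_le_card_of_injective (fun c => (⟨⟨c, (mem_inf.1 c.2).2⟩, mem_centralizer_singleton_iff.2
      (Subtype.ext (mem_centralizer_singleton_iff.1 (hL1le (mem_inf.1 c.2).1).2))⟩ : ↥D)) ?_
    exact fun a b e => Subtype.ext (congrArg (fun w : ↥D => ((w : ↥C0) : G)) e)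
  have hDi : D.index ≤ 4 := by
    have h4 := D.card_mul_index
    have hpos : 0 < Nat.card ↥D := Nat.card_pos
    by_contra hlt
    have := Nat.mul_le_mul_left (Nat.card ↥D) (show 5 ≤ D.index by omega)
    omega
  set X := D.map H.S.ρ with hX
  have hXtop : X = ⊤ := by
    have hXi : X.index ≤ 4 := le_trans (Nat.le_of_dvd (Nat.pos_of_ne_zero index_ne_zero_of_finite)
      (index_map_dvd D H.S.surj)) hDi
    by_contra hne'
    rcases Subgroup.Normal.eq_bot_or_eq_top X.normalCore_normal with h | h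
    · have hd : X.normalCore.index ∣ Nat.factorial X.index := by
        rw [normalCore_eq_ker, index_ker, index_eq_card, ← Nat.card_perm]
        exact card_subgroup_dvd_card _
      rw [h, index_bot] at hd
      have hle : Nat.factorial X.index ≤ 24 := le_trans (Nat.factorial_le hXi) (by decide)
      have hbig := Nat.le_of_dvd (Nat.factorial_pos _) hd
      obtain ⟨p, hp⟩ : ∃ p : Fin 4 → CfsgLib.U62Type.F4, CfsgLib.PSUAut.Isot 2 p :=
        ⟨![1, 1, 0, 0], by decide +kernel, by decide +kernel⟩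
      obtain ⟨t, ht⟩ := CfsgLib.SURadical.exists_pt CfsgLib.U62Type.F4.card' hp
      have h45 := CfsgLib.USixType.index_invol (CfsgLib.SURadical.IsPt.mul_self CfsgLib.U62Type.F4.card' ht)
        (CfsgLib.SURadical.IsPt.ne_one CfsgLib.U62Type.F4.card' ht)
      have h46 := Nat.le_of_dvd Nat.card_pos (index_dvd_card (centralizer ({t} : Set _)))
      omega
    · exact hne' (eq_top_iff.2 (h.ge.trans X.normalCore_le))
  set Lf : Subgroup G := J.map (MulAut.conj g).toMonoidHom ⊓ C0 with hLf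
  set I := (Lf.subgroupOf C0).map H.S.ρ with hI
  haveI hIn : I.Normal := by
    refine ⟨fun t ht T => ?_⟩
    obtain ⟨r, hr, rfl⟩ := ht
    obtain ⟨d, hd, rfl⟩ : ∃ d ∈ D, H.S.ρ d = T := mem_map.1 (hXtop ▸ mem_top T : T ∈ X)
    refine ⟨d * r * d⁻¹, mem_subgroupOf.2 (mem_inf.2 ⟨?_, (d * r * d⁻¹).2⟩), by simp [map_mul]⟩
    have hds : ((d : ↥C0) : G) * s = s * d := congrArg Subtype.val (mem_centralizer_singleton_iff.1 hd)
    exact (mem_normalizer_iff.1 (hh.normalizer_map (mem_centralizer_singleton_iff.2 hds)) _).1 (mem_inf.1 hr).1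
  have hIsq : ∀ t ∈ I, t * t = 1 := by
    rintro _ ⟨r, hr, rfl⟩
    rw [← map_mul]
    exact H.S.mem_J_iff.1 (H.sq_mem hs hne (mem_inf.1 hr).1)
  have hIbot : I = ⊥ := by
    refine (Subgroup.Normal.eq_bot_or_eq_top hIn).resolve_right fun h => ?_
    obtain ⟨p, hp⟩ : ∃ p : Fin 4 → CfsgLib.U62Type.F4, CfsgLib.PSUAut.Isot 2 p :=
      ⟨![1, 1, 0, 0], by decide +kernel, by decide +kernel⟩
    obtain ⟨t, ht⟩ := CfsgLib.SURadical.exists_pt CfsgLib.U62Type.F4.card' hp
    have h45 := CfsgLib.USixType.index_invol (CfsgLib.SURadical.IsPt.mul_self CfsgLib.U62Type.F4.card' ht)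
      (CfsgLib.SURadical.IsPt.ne_one CfsgLib.U62Type.F4.card' ht)
    have hc : centralizer ({t} : Set _) = ⊤ := eq_top_iff.2 fun x _ => mem_centralizer_singleton_iff.2 (by
      have e1 := hIsq x (h ▸ mem_top x)
      have e2 := hIsq t (h ▸ mem_top t)
      have e3 := hIsq (x * t) (h ▸ mem_top _)
      calc x * t = x * t * (x * t * (x * t))⁻¹ := by rw [e3]; group
        _ = (x * t)⁻¹ := by group
        _ = t * x := by rw [_root_.mul_inv_rev, inv_eq_of_mul_eq_one_right e1, inv_eq_of_mul_eq_one_right e2])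
    rw [hc, index_top] at h45
    omega
  have hLfJ : Lf ≤ J ⊓ J.map (MulAut.conj g).toMonoidHom := fun r hr => by
    have h : H.S.ρ ⟨r, (mem_inf.1 hr).2⟩ ∈ I := mem_map_of_mem _ (mem_subgroupOf.2 hr)
    rw [hIbot, mem_bot] at h
    exact ⟨H.S.mem_J_iff.2 h, (mem_inf.1 hr).1⟩
  have := card_le_of_le hLfJ
  have hc1 : 128 ≤ Nat.card ↥Lf := H.card_frame hs hne
  have := H.card_E hs hne
  omega

/-- The element cannot lie outside the part of index two. -/
theorem false_of_outer (hsA : g * z * g⁻¹ ∉ H.Asub) {a1 : G} (ha1 : a1 ∈ H.Asub)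
    (ha1s : a1 * (g * z * g⁻¹) ≠ g * z * g⁻¹ * a1) {a : G} (ha : a ∈ H.Asub)
    (hau : a * (g⁻¹ * z * g) = g⁻¹ * z * g * a) (hK : g * a * g⁻¹ ∉ C0)
    (hfix : ∀ d ∈ Cz z, d * (g⁻¹ * z * g) = g⁻¹ * z * g * d → g * d * g⁻¹ ∈ C0 → H.pv (d * a * d⁻¹) = H.pv a) :
    False := by
  classical
  have hh := H.pairHyp hs hne
  have hmove := fun c (hc : c ∈ C0) hcs => H.moved hs hne ha hc hcs hfix
  have hqv := H.q_s hs hne
  have hv0 := H.pv_s_ne hs hne
  set y : G := g * a * g⁻¹ with hyd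
  set s : G := g * z * g⁻¹ with hsd
  have hy : y ∈ Cz z := H.fwd hs hne hau
  have hys : y * s = s * y := hh.map_comm (PairHyp.mem_map_iff.2 (by
    rw [hyd, show g⁻¹ * (g * a * g⁻¹) * g = a by group]; exact H.A_le ha))
  obtain ⟨w, hw, p, hp, hvwp⟩ := H.S.exists_parts (H.pv s)
  have hp0 : p ≠ 0 := fun h => hsA ((H.mem_A_iff hs).2 (by rw [hvwp, h, add_zero]; exact hw))
  have hw0 : w ≠ 0 := fun h => ha1s (H.comm_A_B ha1 ((H.mem_B_iff hs).2 (by rw [hvwp, h, zero_add]; exact hp)))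
  have hAv : ∀ x ∈ H.S.img H.S.A, polar q x (H.pv s) = polar q x w := fun x hx => by
    rw [hvwp, polar_add_right, H.S.A_perp_B hx hp, add_zero]
  have hBv : ∀ x ∈ H.S.img H.S.B, polar q x (H.pv s) = polar q x p := fun x hx => by
    rw [hvwp, polar_add_right, polar_comm q x w, H.S.A_perp_B hw hx, zero_add]
  have hperp : ∀ x, polar q x (H.pv s) = 0 → H.tw y x = x ∨ H.tw y x = x + H.pv s := by
    intro x hx
    obtain ⟨b, hb, rfl⟩ := H.pv_surj x
    have hbs : b * s = s * b := (H.pv_comm hb hs).1 hx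
    rw [H.tw_pv hy hb]
    rcases hmove b (H.o.J_le hb) hbs with h | h <;> rw [mul_inv_eq_iff_eq_mul] at h
    · left
      rw [← h, mul_inv_cancel_right]
    · right
      rw [show y * b * y⁻¹ = b * s from ?_, H.pv_mul hb hs]
      have h' : y * b = b * y * s⁻¹ := by
        rw [eq_mul_inv_iff_mul_eq, h, mul_assoc y b s, hbs, ← mul_assoc]
      rw [h', inv_eq_of_mul_eq_one_right hh.xx, mul_assoc b y s, hys, mul_assoc, mul_assoc, mul_inv_cancel, mul_one]
  have hfA : ∀ x ∈ H.S.img H.S.A, polar q x (H.pv s) = 0 → H.tw y x = x := fun x hx hxv =>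
    (hperp x hxv).resolve_right fun e => hp0 (H.S.A_inf_B (v := p) (by
      have h1 := add_mem hx (H.tw_memA hy hx)
      rw [e, ← add_assoc, vadd_self, zero_add, hvwp] at h1
      have h2 := add_mem h1 hw
      rwa [add_comm w p, add_assoc, vadd_self, add_zero] at h2) hp)
  have hfB : ∀ x ∈ H.S.img H.S.B, polar q x (H.pv s) = 0 → H.tw y x = x := fun x hx hxv =>
    (hperp x hxv).resolve_right fun e => hw0 (H.S.A_inf_B hw (by
      have h1 := add_mem hx (H.tw_memB hy hx)
      rw [e, ← add_assoc, vadd_self, zero_add, hvwp] at h1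
      have h2 := add_mem h1 hp
      rwa [add_assoc, vadd_self, add_zero] at h2))
  obtain ⟨x, hxv, hxm⟩ : ∃ x, polar q x (H.pv s) = 0 ∧ H.tw y x = x + H.pv s := by
    by_contra hno
    simp only [not_exists, not_and] at hno
    have hall : ∀ x, polar q x (H.pv s) = 0 → H.tw y x = x := fun x hx =>
      (hperp x hx).resolve_right (hno x hx)
    refine hK (H.o.J_le (H.mem_of_tw_id hy fun t => ?_))
    rcases z2_cases (polar q t (H.pv s)) with ht | ht
    · exact hall t ht
    rcases H.eq_or_eq hv0 (x := H.tw y t + t) (fun h hh' => by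
        have h1 := hall h (by rw [polar_comm]; exact hh')
        have h2 : polar q (H.tw y t) h = polar q t h := by
          conv_lhs => rw [← h1]
          exact H.tw_polar hy t h
        rw [polar_add_left, h2]
        exact vadd_self _) with e | e
    · exact eq_of_vadd e
    · exfalso
      have e' : H.tw y t = t + H.pv s := by rw [← e, add_comm, add_assoc, vadd_self, add_zero]
      have h3 := H.tw_q hy t
      rw [e', q_add, hqv, ht, add_zero, add_eq_left] at h3
      exact one_ne_zero h3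
  obtain ⟨a', ha', b', hb', hxe⟩ := H.S.exists_parts x
  have hTb : H.tw y b' = b' + p := by
    rw [hxe, H.tw_add hy, hvwp, show a' + b' + (w + p) = (a' + w) + (b' + p) by abel] at hxm
    exact (H.S.parts_unique (H.tw_memA hy ha') (add_mem ha' hw) (H.tw_memB hy hb') (add_mem hb' hp) hxm).2
  have hqp : q p = 1 := by
    have h3 := H.tw_q hy b'
    rw [hTb, q_add, add_assoc, add_eq_left] at h3
    have h4 : q p = polar q b' p := eq_of_vadd h3
    rcases z2_cases (polar q b' p) with h | h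
    · exfalso
      have h5 := hfB b' hb' (by rw [hBv b' hb', h])
      rw [hTb, add_eq_left] at h5
      exact hp0 h5
    · rw [h4, h]
  -- vectors under both frames inside the large piece
  set E : Subgroup G := J ⊓ J.map (MulAut.conj g).toMonoidHom with hEd
  set N : Submodule (ZMod 2) V := H.S.img (E.subgroupOf C0) ⊓ H.S.img H.S.B with hN
  have hNlift : ∀ n ∈ N, ∃ e ∈ E, H.pv e = n := fun n hn => by
    obtain ⟨x, hx, rfl⟩ := (Submodule.mem_inf.1 hn).1
    exact ⟨_, hx, H.pv_coe x⟩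
  have hNN : ∀ m ∈ N, ∀ n ∈ N, polar q m n = 0 := fun m hm n hn => by
    obtain ⟨e, he, rfl⟩ := hNlift m hm
    obtain ⟨f, hf, rfl⟩ := hNlift n hn
    exact (H.pv_comm he.1 hf.1).2 (hh.E_comm e he f hf)
  have hNq : ∀ n ∈ N, q n = 0 := fun n hn => by
    obtain ⟨e, he, rfl⟩ := hNlift n hn
    exact (H.pv_sq he.1).2 (hh.E_sq e he)
  have hNp : ∀ n ∈ N, polar q n p = 0 := fun n hn => by
    rw [← hBv n (Submodule.mem_inf.1 hn).2]
    obtain ⟨e, he, rfl⟩ := hNlift n hn
    exact (H.pv_comm he.1 hs).2 (hh.E_comm e he s hh.x_mem_E)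
  have hN4 : Nat.card ↥N ≤ 4 := by
    set U : Submodule (ZMod 2) V := N ⊔ Submodule.span (ZMod 2) {p} ⊔ Submodule.span (ZMod 2) {w} with hU
    have hiso : ∀ v ∈ U, ∀ v' ∈ U, polar q v v' = 0 := by
      have hgen : ∀ v ∈ U, ∃ n ∈ N, ∃ c d : ZMod 2, v = n + c • p + d • w := by
        intro v hv
        obtain ⟨v1, hv1, v2, hv2, rfl⟩ := Submodule.mem_sup.1 hv
        obtain ⟨n, hn, v3, hv3, rfl⟩ := Submodule.mem_sup.1 hv1
        obtain ⟨c, rfl⟩ := Submodule.mem_span_singleton.1 hv3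
        obtain ⟨d, rfl⟩ := Submodule.mem_span_singleton.1 hv2
        exact ⟨n, hn, c, d, rfl⟩
      intro v hv v' hv'
      obtain ⟨n, hn, c, d, rfl⟩ := hgen v hv
      obtain ⟨n', hn', c', d', rfl⟩ := hgen v' hv'
      have hwB : ∀ b ∈ H.S.img H.S.B, polar q w b = 0 := fun b hb => H.S.A_perp_B hw hb
      have hnB : ∀ m ∈ N, m ∈ H.S.img H.S.B := fun m hm => (Submodule.mem_inf.1 hm).2
      simp only [polar_add_left, polar_add_right, QuadraticMap.polar_smul_left, QuadraticMap.polar_smul_right,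
        hNN n hn n' hn', hNp n hn, polar_comm q p n', hNp n' hn', polar_self_zero, hwB _ (hnB n' hn'),
        hwB p hp, polar_comm q n w, hwB _ (hnB n hn), polar_comm q p w, smul_zero, add_zero]
    have h16 := H.S.card_iso_le U hiso
    let Φ : ↥N × ZMod 2 × ZMod 2 → ↥U := fun t => ⟨(t.1 : V) + t.2.1 • p + t.2.2 • w,
      Submodule.add_mem_sup (Submodule.add_mem_sup t.1.2 (Submodule.smul_mem _ _ (Submodule.mem_span_singleton_self p)))
        (Submodule.smul_mem _ _ (Submodule.mem_span_singleton_self w))⟩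
    have hΦ : Function.Injective Φ := by
      rintro ⟨⟨n, hn⟩, c, d⟩ ⟨⟨n', hn'⟩, c', d'⟩ e
      have e1 : d • w + (n + c • p) = d' • w + (n' + c' • p) := by
        have := congrArg (fun t : ↥U => (t : V)) e
        simp only [Φ] at this
        rw [add_comm, this, add_comm]
      obtain ⟨e2, e3⟩ := H.S.parts_unique (Submodule.smul_mem _ _ hw) (Submodule.smul_mem _ _ hw)
        (add_mem (Submodule.mem_inf.1 hn).2 (Submodule.smul_mem _ _ hp))
        (add_mem (Submodule.mem_inf.1 hn').2 (Submodule.smul_mem _ _ hp)) e1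
      have hd : d = d' := smul_left_injective (ZMod 2) hw0 e2
      have hnn : n + n' = (c + c') • p := by
        rw [add_smul]
        calc n + n' = (n + c • p) + (c • p + n') := by
              rw [add_assoc, ← add_assoc (c • p), vadd_self, zero_add]
          _ = (n' + c' • p) + (c • p + n') := by rw [e3]
          _ = (n' + n') + (c • p + c' • p) := by abel
          _ = _ := by rw [vadd_self, zero_add]
      rcases z2_cases (c + c') with hc | hc
      · rw [hc, zero_smul] at hnn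
        obtain rfl := eq_of_vadd hnn
        obtain rfl : c = c' := eq_of_vadd hc
        subst hd
        rfl
      · rw [hc, one_smul] at hnn
        have := hNq _ (hnn ▸ add_mem hn hn')
        rw [hqp] at this
        exact absurd this one_ne_zero
    have h17 := Nat.card_le_card_of_injective Φ hΦ
    rw [Nat.card_prod, Nat.card_prod, Nat.card_zmod] at h17
    omega
  -- the vectors orthogonal to `p` in the large piece
  have hWperp : ∀ δ ∈ H.S.img H.S.B, (∀ h ∈ H.S.img H.S.B, polar q h p = 0 → polar q δ h = 0) → δ = 0 ∨ δ = p := by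
    intro δ hδ h
    refine H.eq_or_eq hp0 fun t ht => ?_
    obtain ⟨ta, hta, tb, htb, rfl⟩ := H.S.exists_parts t
    rw [polar_add_right, polar_comm q δ ta, H.S.A_perp_B hta hδ, zero_add]
    refine h tb htb ?_
    rw [polar_add_right, polar_comm q p ta, H.S.A_perp_B hta hp, zero_add] at ht
    rw [polar_comm]; exact ht
  set L : Subgroup G := J.map (MulAut.conj g).toMonoidHom ⊓ C0 with hLd
  have hLfix : ∀ r ∈ L, H.tw r (H.pv s) = H.pv s ∧ H.tw r p = p := by
    intro r hr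
    have h1 : H.tw r (H.pv s) = H.pv s := by
      rw [H.tw_pv (H.o.le (mem_inf.1 hr).2) hs, hh.map_comm (mem_inf.1 hr).1, mul_inv_cancel_right]
    refine ⟨h1, ?_⟩
    rw [hvwp, H.tw_add (H.o.le (mem_inf.1 hr).2), H.tw_fixA (mem_inf.1 hr).2 hw] at h1
    exact add_left_cancel h1
  have hshift : ∀ r ∈ L, ∀ h ∈ H.S.img H.S.B, polar q h p = 0 → H.tw r h + h ∈ N := by
    intro r hr h hh0 hhp
    have hrC := H.o.le (mem_inf.1 hr).2
    refine Submodule.mem_inf.2 ⟨?_, add_mem (H.tw_memB hrC hh0) hh0⟩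
    obtain ⟨b, hb, rfl⟩ := H.exists_B hh0
    have hbJ := H.B_le hb
    have hbs : b * s = s * b := (H.pv_comm hbJ hs).1 (by rw [hBv _ hh0, hhp])
    have hk : r * b * r⁻¹ * b⁻¹ ∈ E := by
      refine mem_inf.2 ⟨mul_mem (H.conjJ hrC hbJ) (inv_mem hbJ), ?_⟩
      rw [show r * b * r⁻¹ * b⁻¹ = r * (b * r⁻¹ * b⁻¹) by group]
      exact mul_mem (mem_inf.1 hr).1 ((mem_normalizer_iff.1 (hh.normalizer_map
        (mem_centralizer_singleton_iff.2 hbs)) _).1 (inv_mem (mem_inf.1 hr).1))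
    refine ⟨⟨⟨_, H.o.J_le hk.1⟩, hk.1⟩, hk, ?_⟩
    rw [← H.pv_eq_π, H.pv_mul (H.conjJ hrC hbJ) (inv_mem hbJ), H.pv_inv hbJ, H.tw_pv hrC hbJ]
  have hsymm : ∀ r ∈ L, ∀ h ∈ H.S.img H.S.B, ∀ h' ∈ H.S.img H.S.B, polar q h p = 0 → polar q h' p = 0 →
      polar q (H.tw r h + h) h' = polar q h (H.tw r h' + h') := by
    intro r hr h hh0 h' hh0' hhp hhp'
    have e1 := hNN _ (hshift r hr h hh0 hhp) _ (hshift r hr h' hh0' hhp')
    rw [polar_add_left, polar_add_right, polar_add_right, H.tw_polar (H.o.le (mem_inf.1 hr).2)] at e1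
    rw [polar_add_left, polar_add_right]
    have aux : ∀ x y z : ZMod 2, x + y + (z + x) = 0 → z + x = y + x → y + x = z + x := by decide
    have e2 : polar q (H.tw r h) h' = polar q h (H.tw r h') := by
      revert e1
      generalize polar q h h' = x0
      generalize polar q (H.tw r h) h' = y0
      generalize polar q h (H.tw r h') = z0
      revert x0 y0 z0
      decide
    rw [e2]
  have halt : ∀ r ∈ L, ∀ h ∈ H.S.img H.S.B, polar q h p = 0 → polar q h (H.tw r h + h) = 0 := by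
    intro r hr h hh0 hhp
    have e := H.tw_q (H.o.le (mem_inf.1 hr).2) h
    rw [show H.tw r h = h + (H.tw r h + h) by rw [add_comm (H.tw r h), ← add_assoc, vadd_self, zero_add],
      q_add, hNq _ (hshift r hr h hh0 hhp), add_zero, add_eq_left] at e
    exact e
  have htriv : ∀ r ∈ L, (∀ h ∈ H.S.img H.S.B, polar q h p = 0 → H.tw r h = h) → r ∈ J := by
    intro r hr hW
    have hr0 := (mem_inf.1 hr).2
    have hrC := H.o.le hr0
    have hsmall : ∀ t, H.tw r t + t = 0 ∨ H.tw r t + t = p := by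
      intro t
      obtain ⟨ta, hta, tb, htb, rfl⟩ := H.S.exists_parts t
      rw [H.tw_add hrC, H.tw_fixA hr0 hta, show ta + H.tw r tb + (ta + tb) = (ta + ta) + (H.tw r tb + tb) by abel,
        vadd_self, zero_add]
      refine hWperp _ (add_mem (H.tw_memB hrC htb) htb) fun h hh0 hhp => ?_
      rw [polar_add_left]
      conv_lhs => arg 1; rw [← hW h hh0 hhp]
      rw [H.tw_polar hrC]
      exact vadd_self _
    by_contra hrJ
    have hsq : H.S.ρ ⟨r, hr0⟩ * H.S.ρ ⟨r, hr0⟩ = 1 := by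
      rw [← map_mul]; exact H.S.mem_J_iff.1 (H.sq_mem hs hne (mem_inf.1 hr).1)
    have h2 := H.S.rank_invol hsq fun h1 => hrJ (H.S.mem_J_iff.2 h1)
    have hle : LinearMap.range (H.S.M.ρ (H.S.ρ ⟨r, hr0⟩) + 1) ≤ Submodule.span (ZMod 2) {p} := by
      rintro _ ⟨t, rfl⟩
      have e : (H.S.M.ρ (H.S.ρ ⟨r, hr0⟩) + 1) t = H.tw r t + t := by rw [H.tw_zero_one hr0]; rfl
      rw [e]
      rcases hsmall t with h | h <;> rw [h]
      · exact zero_mem _
      · exact Submodule.mem_span_singleton_self p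
    have h3 := Submodule.finrank_mono hle
    rw [h2, finrank_span_singleton (K := ZMod 2) hp0] at h3
    omega
  -- two kinds only
  have hcard : Nat.card ↥L ≤ 2 * Nat.card ↥(L ⊓ J : Subgroup G) := by
    refine H.card_le_two inf_le_left fun r hr hrM r' hr' hrM' => mem_inf.2 ⟨mul_mem (inv_mem hr) hr', ?_⟩
    refine htriv _ (mul_mem (inv_mem hr) hr') fun h hh0 hhp => ?_
    have hrC := H.o.le (mem_inf.1 hr).2
    have hrC' := H.o.le (mem_inf.1 hr').2
    suffices hsame : H.tw r' h = H.tw r h by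
      rw [← H.tw_tw (inv_mem hrC) hrC', hsame, H.tw_tw (inv_mem hrC) hrC, inv_mul_cancel]
      obtain ⟨b, hb, rfl⟩ := H.exists_B hh0
      rw [H.tw_pv (one_mem _) (H.B_le hb), one_mul, inv_one, mul_one]
    obtain ⟨y1, hy1, hy1p, hy1m⟩ : ∃ y1 ∈ H.S.img H.S.B, polar q y1 p = 0 ∧ H.tw r y1 + y1 ≠ 0 := by
      by_contra hc
      simp only [not_exists, not_and, not_not] at hc
      exact hrM ⟨hr, htriv r hr fun h hh0 hhp => eq_of_vadd (hc h hh0 hhp)⟩
    set n2 := H.tw r y1 + y1 with hn2d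
    have hn2 : n2 ∈ N := hshift r hr y1 hy1 hy1p
    obtain ⟨y2, hy2, hy2p, hy2m⟩ : ∃ y2 ∈ H.S.img H.S.B, polar q y2 p = 0 ∧ polar q n2 y2 = 1 := by
      by_contra hc
      simp only [not_exists, not_and] at hc
      rcases hWperp n2 (Submodule.mem_inf.1 hn2).2 fun t ht htp => (z2_cases _).resolve_right (hc t ht htp) with e | e
      · exact hy1m e
      · have := hNq n2 hn2
        rw [e, hqp] at this
        exact one_ne_zero this
    set n1 := H.tw r y2 + y2 with hn1d
    have hn1 : n1 ∈ N := hshift r hr y2 hy2 hy2p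
    have f11 : polar q n1 y1 = 1 := by
      rw [hn1d, hsymm r hr y2 hy2 y1 hy1 hy2p hy1p, polar_comm]; exact hy2m
    have f12 : polar q n1 y2 = 0 := by rw [polar_comm]; exact halt r hr y2 hy2 hy2p
    have f21 : polar q n2 y1 = 0 := by rw [polar_comm]; exact halt r hr y1 hy1 hy1p
    have hmem : ∀ m ∈ N, m = polar q m y1 • n1 + polar q m y2 • n2 := by
      intro m hm
      let Ψ : ↥N → ZMod 2 × ZMod 2 := fun t => (polar q (t : V) y1, polar q (t : V) y2)
      let t1 : ↥N := ⟨polar q m y1 • n1 + polar q m y2 • n2,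
        add_mem (Submodule.smul_mem _ _ hn1) (Submodule.smul_mem _ _ hn2)⟩
      have hs' : Function.Surjective Ψ := fun cd => ⟨⟨cd.1 • n1 + cd.2 • n2,
        add_mem (Submodule.smul_mem _ _ hn1) (Submodule.smul_mem _ _ hn2)⟩, by
          simp [Ψ, polar_add_left, QuadraticMap.polar_smul_left, f11, f12, f21, hy2m]⟩
      have hb := hs'.bijective_of_nat_card_le (by rw [Nat.card_prod, Nat.card_zmod]; exact hN4)
      exact congrArg Subtype.val (hb.1 (a₁ := ⟨m, hm⟩) (a₂ := t1)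
        (by simp [Ψ, t1, polar_add_left, QuadraticMap.polar_smul_left, f11, f12, f21, hy2m]))
    -- the shift of any element is a multiple of this one
    have hform : ∀ r₂ ∈ L, ∀ t ∈ H.S.img H.S.B, polar q t p = 0 → H.tw r₂ t + t =
        polar q (H.tw r₂ y1 + y1) y2 • (polar q t n2 • n1 + polar q t n1 • n2) := by
      intro r₂ hr₂ t ht htp
      set m1 := H.tw r₂ y1 + y1 with hm1
      set m2 := H.tw r₂ y2 + y2 with hm2
      have hm1N := hshift r₂ hr₂ y1 hy1 hy1p
      have hm2N := hshift r₂ hr₂ y2 hy2 hy2p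
      have g11 : polar q m1 y1 = 0 := by rw [polar_comm]; exact halt r₂ hr₂ y1 hy1 hy1p
      have g22 : polar q m2 y2 = 0 := by rw [polar_comm]; exact halt r₂ hr₂ y2 hy2 hy2p
      have g21 : polar q m2 y1 = polar q m1 y2 := by
        rw [hm2, hsymm r₂ hr₂ y2 hy2 y1 hy1 hy2p hy1p, polar_comm]
      have e1 : m1 = polar q m1 y2 • n2 := by
        conv_lhs => rw [hmem m1 hm1N, g11, zero_smul, zero_add]
      have e2 : m2 = polar q m1 y2 • n1 := by
        conv_lhs => rw [hmem m2 hm2N, g22, g21, zero_smul, add_zero]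
      rw [hmem _ (hshift r₂ hr₂ t ht htp), hsymm r₂ hr₂ t ht y1 hy1 htp hy1p, hsymm r₂ hr₂ t ht y2 hy2 htp hy2p,
        ← hm1, ← hm2, smul_add (polar q m1 y2), smul_smul, smul_smul]
      congr 2
      · conv_lhs => rw [e1, QuadraticMap.polar_smul_right, smul_eq_mul]
      · conv_lhs => rw [e2, QuadraticMap.polar_smul_right, smul_eq_mul]
    have hε : polar q (H.tw r' y1 + y1) y2 = 1 := by
      refine (z2_cases _).resolve_left fun h0 => hrM' ⟨hr', htriv r' hr' fun t ht htp => eq_of_vadd ?_⟩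
      rw [hform r' hr' t ht htp, h0, zero_smul]
    have e := hform r' hr' h hh0 hhp
    have e' := hform r hr h hh0 hhp
    rw [hε, one_smul] at e
    rw [← hn2d, hy2m, one_smul] at e'
    exact add_right_cancel (e.trans e'.symm)
  have hle : (L ⊓ J : Subgroup G) ≤ E := fun t ht => ⟨(mem_inf.1 ht).2, (mem_inf.1 (mem_inf.1 ht).1).1⟩
  have := card_le_of_le hle
  have hc1 : 128 ≤ Nat.card ↥L := H.card_frame hs hne
  have hc2 : Nat.card ↥E ≤ 32 := H.card_E hs hne
  omega

end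

/-- No other conjugate of `z` lies in `J`. -/
theorem weak (g : G) (hs : g * z * g⁻¹ ∈ J) : g * z * g⁻¹ = z := by
  by_contra hne
  have hu := H.u_mem hs hne
  have hune := H.u_ne hs hne
  have hs' : g⁻¹ * z * g⁻¹⁻¹ ∈ J := by rwa [inv_inv]
  have hne' : g⁻¹ * z * g⁻¹⁻¹ ≠ z := by rwa [inv_inv]
  have huA : g⁻¹ * z * g ∉ H.Asub := H.false_of_memA hs hne
  have hsA : g * z * g⁻¹ ∉ H.Asub := fun h => H.false_of_memA hs' hne' (by rwa [inv_inv])
  obtain ⟨a1, ha1, ha1s⟩ : ∃ a1 ∈ H.Asub, a1 * (g * z * g⁻¹) ≠ g * z * g⁻¹ * a1 := by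
    by_contra h
    push Not at h
    exact H.false_of_comm hs' hne' (by simpa only [inv_inv] using h)
  obtain ⟨a0, ha0, ha0u⟩ : ∃ a0 ∈ H.Asub, a0 * (g⁻¹ * z * g) ≠ g⁻¹ * z * g * a0 := by
    by_contra h
    push Not at h
    exact H.false_of_comm hs hne h
  have hpol : polar q (H.pv a0) (H.pv (g⁻¹ * z * g)) = 1 := by
    rcases z2_cases (polar q (H.pv a0) (H.pv (g⁻¹ * z * g))) with h | h
    · exact absurd ((H.pv_comm (H.A_le ha0) hu).1 h) ha0u
    · exact h
  have hp0 : H.pv a0 ≠ 0 := fun e => by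
    rw [e, QuadraticMap.polar_zero_left] at hpol
    exact zero_ne_one hpol
  obtain ⟨a, ha, hpa, hpa', hau⟩ : ∃ a ∈ H.Asub, H.pv a ≠ 0 ∧ H.pv a ≠ H.pv a0 ∧
      a * (g⁻¹ * z * g) = g⁻¹ * z * g * a := by
    obtain ⟨x, hx, hx0, hxv⟩ := H.A_not_le hs hne ((H.mem_A_iff (H.A_le ha0)).1 ha0)
    obtain ⟨b, hb, rfl⟩ := H.exists_A hx
    rcases z2_cases (polar q (H.pv b) (H.pv (g⁻¹ * z * g))) with h | h
    · exact ⟨b, hb, hx0, hxv, (H.pv_comm (H.A_le hb) hu).1 h⟩
    · refine ⟨b * a0, mul_mem hb ha0, ?_, ?_, (H.pv_comm (mul_mem (H.A_le hb) (H.A_le ha0)) hu).1 ?_⟩ <;>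
        rw [H.pv_mul (H.A_le hb) (H.A_le ha0)]
      · exact fun e => hxv (eq_of_vadd e)
      · exact fun e => hx0 (add_eq_right.1 e)
      · rw [polar_add_left, h, hpol]; rfl
  have hfix : ∀ d ∈ Cz z, d * (g⁻¹ * z * g) = g⁻¹ * z * g * d → g * d * g⁻¹ ∈ C0 →
      H.pv (d * a * d⁻¹) = H.pv a := by
    intro d hd hdu _
    have hy := H.conjA hd ha
    have hyu : d * a * d⁻¹ * (g⁻¹ * z * g) = g⁻¹ * z * g * (d * a * d⁻¹) := by
      have hdu' : Commute d (g⁻¹ * z * g) := hdu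
      exact ((hdu'.mul_left hau).mul_left hdu'.inv_left).eq
    have h0 := (H.pv_comm (H.A_le hy) hu).2 hyu
    have ha' := (H.pv_comm (H.A_le ha) hu).2 hau
    rcases H.A_cases ((H.mem_A_iff (H.A_le ha)).1 ha) ((H.mem_A_iff (H.A_le ha0)).1 ha0)
      ((H.mem_A_iff (H.A_le hy)).1 hy) hpa hp0 hpa' with e | e | e | e
    · exfalso
      refine hpa ((H.pv_eq_zero (H.A_le ha)).2 ?_)
      rcases (H.pv_eq_zero (H.A_le hy)).1 e with h | h
      · exact .inl (conj_eq_one_iff.1 h)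
      · refine .inr ?_
        calc a = d⁻¹ * (d * a * d⁻¹) * d := by group
          _ = d⁻¹ * (z * d) := by rw [h, mul_assoc]
          _ = z := by rw [← H.z_comm hd, inv_mul_cancel_left]
    · exact e
    · rw [e, hpol] at h0
      exact absurd h0 one_ne_zero
    · rw [e, polar_add_left, ha', hpol, zero_add] at h0
      exact absurd h0 one_ne_zero
  by_cases hK : g * a * g⁻¹ ∈ C0
  · exact H.false_of_inner hs hne ha hpa (fun e => huA ((H.mem_A_iff hu).2 (e ▸ (H.mem_A_iff (H.A_le ha)).1 ha)))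
      hK hfix
  · exact H.false_of_outer hs hne hsA ha1 ha1s ha hau hK hfix

end SplitHalf

end CfsgLib.USixOuter
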