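import Cfsg.Agent.Lib.USixOuter.Half
import Cfsg.Agent.Lib.USixType.Geom

/-!
# `z` is weakly closed in `J` also above an outer automorphism

Were `s = gzg⁻¹` another conjugate in `J`: an element of the conjugate of `J` centralising `z` moves some
isotropic line at the point of `s`, else the centralised part of that radical would be too close to `J`.
Its commutators with lifts of transvections then cover the transvection at the point of `s`, and seen from `s`
this element has no place.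
-/

set_option autoImplicit false
set_option linter.unusedSectionVars false
set_option maxHeartbeats 1000000

namespace CfsgLib.USixOuter

open Cfsg CfsgLib.SURadical CfsgLib.LargeExtra
open CfsgLib.USixType (Cz Flag exists_flag mem_span_of_trace)
open CfsgLib.PSUAut (Isot act act_mul act_one act_form act_smul act_add act_ext)

namespace Half

variable {G : Type*} [Group G] [Finite G] {F : Type} [Field F] [Fintype F] {z : G} (H : Half z F)
include H

local notation "hh" => Cfsg.hermForm 4 F 2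

/-- The hypotheses for pairs. -/
theorem pairHyp {g : G} (hs : g * z * g⁻¹ ∈ H.J) (hne : g * z * g⁻¹ ≠ z) : PairHyp H.J z g := by
  refine ⟨H.extra, H.centre, H.orderOf_z, H.self, fun c hc => Subgroup.mem_normalizer_iff.2 fun x => ?_, hs, hne⟩
  refine ⟨fun hx => H.conj_mem hc hx, fun hx => ?_⟩
  have h1 := H.conj_mem (inv_mem hc) hx
  rwa [show c⁻¹ * (c * x * c⁻¹) * c⁻¹⁻¹ = x by group] at h1

theorem cv_inv {a : G} (ha : a ∈ H.J) : H.cv a⁻¹ = H.cv a := by
  have h := H.cv_mul ha (inv_mem ha)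
  rw [mul_inv_cancel, (H.cv_eq_zero (one_mem _)).2 (.inl rfl)] at h
  calc H.cv a⁻¹ = (H.cv a + H.cv a) + H.cv a⁻¹ := by rw [vadd_self H.hF, zero_add]
    _ = H.cv a := by rw [add_assoc, ← h, add_zero]

/-- The vectors under `J` and its conjugate. -/
def Meet (g : G) (d : Fin 4 → F) : Prop := ∃ k ∈ H.J, g⁻¹ * k * g ∈ H.J ∧ H.cv k = d

section

variable {g : G} (hs : g * z * g⁻¹ ∈ H.J) (hne : g * z * g⁻¹ ≠ z)
include hs hne

theorem isot : Isot 2 (H.cv (g * z * g⁻¹)) := by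
  refine ⟨fun e => ?_, (H.cv_sq hs).2 (H.pairHyp hs hne).xx⟩
  rcases (H.cv_eq_zero hs).1 e with e' | e'
  · exact (H.pairHyp hs hne).x_ne_one e'
  · exact hne e'

theorem fix_of_comm {c : G} (hc : c ∈ Cz z) (hcs : c * (g * z * g⁻¹) = g * z * g⁻¹ * c) :
    H.tw c (H.cv (g * z * g⁻¹)) = H.cv (g * z * g⁻¹) := by
  rw [H.tw_cv hc hs, hcs, mul_inv_cancel_right]

/-- Lifts in the part centralising `s`. -/
theorem exists_lift {T : Cfsg.SU 4 F 2} (hT : act T (H.cv (g * z * g⁻¹)) = H.cv (g * z * g⁻¹)) :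
    ∃ c : ↥H.C0, H.ρ0 c = T ∧ (c : G) * (g * z * g⁻¹) = g * z * g⁻¹ * c := by
  obtain ⟨c, rfl⟩ := H.ρ0_surj T
  rw [← H.cv_conj0 c hs] at hT
  rcases H.cv_eq (H.conj_mem (H.le c.2) hs) hs hT with e | e
  · exact ⟨c, rfl, mul_inv_eq_iff_eq_mul.1 e⟩
  · obtain ⟨⟨a, ha, hax⟩, -⟩ := (H.pairHyp hs hne).automizer
    refine ⟨⟨a, H.J_le ha⟩ * c, by rw [map_mul, H.ρ0_eq_one.2 ha, one_mul], mul_inv_eq_iff_eq_mul.1 ?_⟩
    simp only [Subgroup.coe_mul]
    calc a * (c : G) * (g * z * g⁻¹) * (a * (c : G))⁻¹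
        = a * ((c : G) * (g * z * g⁻¹) * (c : G)⁻¹) * a⁻¹ := by group
      _ = (a * (g * z * g⁻¹) * a⁻¹) * (a * z * a⁻¹) := by rw [e]; group
      _ = z * (g * z * g⁻¹) * z := by rw [hax, (H.pairHyp hs hne).z_comm ha, mul_inv_cancel_right]
      _ = g * z * g⁻¹ := by rw [← (H.pairHyp hs hne).xz, mul_assoc _ z z, H.zz, mul_one]

theorem conj_frame {c : G} (hc : c * (g * z * g⁻¹) = g * z * g⁻¹ * c) {y : G}
    (hy : g⁻¹ * y * g ∈ H.J) : g⁻¹ * (c * y * c⁻¹) * g ∈ H.J :=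
  PairHyp.mem_map_iff.1 ((Subgroup.mem_normalizer_iff.1 ((H.pairHyp hs hne).normalizer_map
    (Subgroup.mem_centralizer_singleton_iff.2 hc)) y).1 (PairHyp.mem_map_iff.2 hy))

theorem frame_comm {r : G} (hr : g⁻¹ * r * g ∈ H.J) : r * (g * z * g⁻¹) = g * z * g⁻¹ * r :=
  (H.pairHyp hs hne).map_comm (PairHyp.mem_map_iff.2 hr)

theorem meet_self : H.Meet g (H.cv (g * z * g⁻¹)) :=
  ⟨_, hs, by rw [show g⁻¹ * (g * z * g⁻¹) * g = z by group]; exact H.z_mem, rfl⟩

theorem meet_add {d e : Fin 4 → F} (hd : H.Meet g d) (he : H.Meet g e) : H.Meet g (d + e) := by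
  obtain ⟨a, ha, ha', rfl⟩ := hd
  obtain ⟨b, hb, hb', rfl⟩ := he
  refine ⟨a * b, mul_mem ha hb, ?_, H.cv_mul ha hb⟩
  rw [show g⁻¹ * (a * b) * g = g⁻¹ * a * g * (g⁻¹ * b * g) by group]
  exact mul_mem ha' hb'

theorem meet_tr {d e : Fin 4 → F} (hd : H.Meet g d) (he : H.Meet g e) : hh d e + hh d e ^ 2 = 0 := by
  obtain ⟨a, ha, ha', rfl⟩ := hd
  obtain ⟨b, hb, hb', rfl⟩ := he
  exact (H.cv_comm ha hb).2 ((H.pairHyp hs hne).E_comm _ ⟨ha, PairHyp.mem_map_iff.2 ha'⟩ _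
    ⟨hb, PairHyp.mem_map_iff.2 hb'⟩)

/-- Transvections at points orthogonal to the point of `s` move such vectors inside. -/
theorem meet_move {d : Fin 4 → F} (hd : H.Meet g d) {p : Fin 4 → F} (hp : Isot 2 p)
    (hpv : hh p (H.cv (g * z * g⁻¹)) = 0) : H.Meet g (hh d p • p) := by
  obtain ⟨t, ht⟩ := exists_pt H.hF hp
  obtain ⟨c, hc, hcs⟩ := H.exists_lift hs hne (ht.act_of_perp ((comm_zero H.hF).1 hpv))
  obtain ⟨a, ha, ha', rfl⟩ := hd
  have h1 : H.Meet g (H.cv ((c : G) * a * (c : G)⁻¹)) :=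
    ⟨_, H.conj_mem (H.le c.2) ha, H.conj_frame hs hne hcs ha', rfl⟩
  have h2 := H.meet_add hs hne h1 ⟨a, ha, ha', rfl⟩
  rw [H.cv_conj0 c ha, hc, ht.2, add_comm, ← add_assoc, vadd_self H.hF, zero_add] at h2
  exact h2

/-- A vector all whose moves lie inside is orthogonal to the point of `s`. -/
theorem perp_of_moves {y : Fin 4 → F} (htr : hh y (H.cv (g * z * g⁻¹)) + hh y (H.cv (g * z * g⁻¹)) ^ 2 = 0)
    (hy : ∀ p, Isot 2 p → hh p (H.cv (g * z * g⁻¹)) = 0 → H.Meet g (hh y p • p)) :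
    hh y (H.cv (g * z * g⁻¹)) = 0 := by
  set v := H.cv (g * z * g⁻¹) with hv
  by_contra hne0
  have h1 : hh y v = 1 := by
    have h3 : hh y v * (hh y v + 1) = 0 := by linear_combination htr
    linear_combination (mul_eq_zero.1 h3).resolve_left hne0 - add_self H.hF (1 : F)
  obtain ⟨p, q, f⟩ := exists_flag H.hF (H.isot hs hne)
  obtain ⟨ω, hω', hω⟩ := exists_omega' H.hF
  have hval : ∀ (r : Fin 4 → F) (c μ : F), μ = (c + hh y r) ^ 2 → hh y (r + μ • v) = c := by
    intro r c μ hμ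
    rw [add_right H.hF, smul_right H.hF, h1, mul_one, hμ]
    have h4 : (c + hh y r) ^ 4 = c + hh y r := by
      rcases eq_or_ne (c + hh y r) 0 with e | e
      · rw [e]; simp
      · linear_combination (c + hh y r) * cube_eq_one H.hF e
    linear_combination h4 + add_self H.hF (hh y r)
  have m1 := hy _ (f.shift_isot H.hF ((1 + hh y p) ^ 2) (f.shift_ne H.hF _)) (f.shift_perp H.hF _)
  have f' := f.swap H.hF
  have m2 := hy _ (f'.shift_isot H.hF ((ω + hh y q) ^ 2) (f'.shift_ne H.hF _)) (f'.shift_perp H.hF _)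
  rw [hval p 1 _ rfl, one_smul] at m1
  rw [hval q ω _ rfl] at m2
  have h := H.meet_tr hs hne m1 m2
  rw [smul_right H.hF, add_left H.hF, add_right H.hF, add_right H.hF, smul_left H.hF, smul_left H.hF,
    smul_right H.hF, smul_right H.hF, f.hpq, f.hpv, (comm_zero H.hF).1 f.hqv, f.hvv] at h
  have hω3 : ω ^ 3 = 1 := cube_eq_one H.hF hω'
  exact one_ne_zero (show (1 : F) = 0 by linear_combination hω - h + hω3 * ω)

/-- Moves of the vectors centralising `s` lie inside. -/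
theorem meet_in {r : G} (hr : r ∈ Cz z) (hr' : g⁻¹ * r * g ∈ H.J) {x : Fin 4 → F}
    (hx : hh x (H.cv (g * z * g⁻¹)) + hh x (H.cv (g * z * g⁻¹)) ^ 2 = 0) : H.Meet g (H.tw r x + x) := by
  obtain ⟨a, ha, rfl⟩ := H.cv_surj x
  have has := (H.cv_comm ha hs).1 hx
  refine ⟨r * a * r⁻¹ * a⁻¹, mul_mem (H.conj_mem hr ha) (inv_mem ha), ?_, ?_⟩
  · rw [show g⁻¹ * (r * a * r⁻¹ * a⁻¹) * g = g⁻¹ * r * g * (g⁻¹ * (a * r⁻¹ * a⁻¹) * g) by group]
    refine mul_mem hr' (H.conj_frame hs hne has ?_)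
    rw [show g⁻¹ * r⁻¹ * g = (g⁻¹ * r * g)⁻¹ by group]
    exact inv_mem hr'
  · rw [H.cv_mul (H.conj_mem hr ha) (inv_mem ha), H.cv_inv ha, H.tw_cv hr ha]

/-- The elements of the part in the other frame square to the identity. -/
theorem sq_one {r : ↥H.C0} (hr : g⁻¹ * (r : G) * g ∈ H.J) : H.ρ0 r * H.ρ0 r = 1 := by
  rw [← map_mul, H.ρ0_eq_one]
  rcases (H.pairHyp hs hne).map_sq_cases (PairHyp.mem_map_iff.2 hr) with e | e <;>
    simp only [Subgroup.coe_mul, e]
  · exact one_mem _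
  · exact hs

/-- A commutator with the lift of a transvection. -/
theorem exists_commutator {r : G} (hr : r ∈ Cz z) (hr' : g⁻¹ * r * g ∈ H.J) {w : Fin 4 → F} (hw : Isot 2 w)
    (hwv : hh w (H.cv (g * z * g⁻¹)) = 0) :
    ∃ (r₁ : ↥H.C0) (t t' : Cfsg.SU 4 F 2), g⁻¹ * (r₁ : G) * g ∈ H.J ∧ IsPt t w ∧ IsPt t' (H.tw r w) ∧
      H.ρ0 r₁ = t' * t := by
  obtain ⟨t, ht⟩ := exists_pt H.hF hw
  obtain ⟨c, hc, hcs⟩ := H.exists_lift hs hne (ht.act_of_perp ((comm_zero H.hF).1 hwv))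
  refine ⟨⟨r * c * r⁻¹, H.norm r hr c c.2⟩ * c⁻¹, t, H.ρ0 ⟨r * c * r⁻¹, H.norm r hr c c.2⟩, ?_, ht,
    H.tw_pt hr (hc ▸ ht), ?_⟩
  · simp only [Subgroup.coe_mul, Subgroup.coe_inv]
    rw [show g⁻¹ * (r * (c : G) * r⁻¹ * (c : G)⁻¹) * g =
      g⁻¹ * r * g * (g⁻¹ * ((c : G) * r⁻¹ * (c : G)⁻¹) * g) by group]
    refine mul_mem hr' (H.conj_frame hs hne hcs ?_)
    rw [show g⁻¹ * r⁻¹ * g = (g⁻¹ * r * g)⁻¹ by group]
    exact inv_mem hr'
  · rw [map_mul, map_inv, hc, IsPt.inv_eq H.hF ht]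

/-- An element trivial on the chart lies in `J`. -/
theorem mem_of_tw_id {r : G} (hr : r ∈ Cz z) (h : ∀ x, H.tw r x = x) : r ∈ H.J :=
  H.faithful r hr fun j hj => H.cv_eq (H.conj_mem hr hj) hj (by rw [← H.tw_cv hr hj, h])

/-- An element fixing every isotropic line at the point of `s` is trivial or acts as the transvection there. -/
theorem id_or_pt {r : G} (hr : r ∈ Cz z) (hr' : g⁻¹ * r * g ∈ H.J)
    (hline : ∀ p q, Flag (H.cv (g * z * g⁻¹)) p q → ∃ a : F, H.tw r p = a • p) :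
    (∀ y, H.tw r y = y) ∨ ∀ y, H.tw r y = y + hh y (H.cv (g * z * g⁻¹)) • H.cv (g * z * g⁻¹) := by
  obtain ⟨p, q, f⟩ := exists_flag H.hF (H.isot hs hne)
  obtain ⟨hv0, hvv⟩ := H.isot hs hne
  have hrv := H.fix_of_comm hs hne hr (H.frame_comm hs hne hr')
  set v := H.cv (g * z * g⁻¹) with hv
  have hvq : hh v q = 0 := (comm_zero H.hF).1 f.hqv
  have hshift : ∀ {p q : Fin 4 → F}, Flag v p q → ∀ l : F, Flag v (p + l • v) q := by
    intro p q f l
    refine ⟨f.hvv, (f.shift_isot H.hF l (f.shift_ne H.hF l)).2, f.hqq, f.shift_perp H.hF l, f.hqv, ?_, fun y hy => ?_⟩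
    · rw [add_left H.hF, smul_left H.hF, f.hpq, (comm_zero H.hF).1 f.hqv, mul_zero, add_zero]
    · obtain ⟨γ, hγ⟩ := f.decomp y hy
      refine ⟨γ - hh y q * l, ?_⟩
      rw [add_right H.hF, smul_right H.hF, hy, mul_zero, add_zero, smul_add, smul_smul, sub_smul]
      conv_lhs => rw [hγ]
      abel
  have hfix : ∀ {p q : Fin 4 → F}, Flag v p q → H.tw r p = p ∧ ∀ l : F, H.tw r (l • v) = l • v := by
    intro p q f
    have f' := f.swap H.hF
    obtain ⟨a, ha⟩ := hline p q f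
    obtain ⟨b, hb⟩ := hline q p f'
    have key : ∀ l : F, H.tw r (l • v) = (a * l) • v := by
      intro l
      obtain ⟨a', ha'⟩ := hline _ _ (hshift f l)
      obtain ⟨b', hb'⟩ := hline _ _ (hshift f' l)
      rw [H.tw_add hr, ha] at ha'
      rw [H.tw_add hr, hb] at hb'
      have hvq : hh v q = 0 := (comm_zero H.hF).1 f.hqv
      have e1 := congrArg (fun x => hh x q) hb'
      simp only [add_left H.hF, smul_left H.hF, f.hqq, hvq, mul_zero, zero_add, add_zero] at e1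
      have e2 := congrArg (fun x => hh x q) ha'
      simp only [add_left H.hF, smul_left H.hF, f.hpq, e1, hvq, mul_zero, mul_one, add_zero] at e2
      rw [← e2, smul_add] at ha'
      rw [add_left_cancel ha', smul_smul]
    have ha1 : a = 1 := by
      have h := key 1
      rw [one_smul, hrv, mul_one] at h
      have h' : (a - 1) • v = 0 := by rw [sub_smul, one_smul, ← h, sub_self]
      exact sub_eq_zero.1 ((smul_eq_zero.1 h').resolve_right hv0)
    exact ⟨by rw [ha, ha1, one_smul], fun l => by rw [key, ha1, one_mul]⟩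
  have hmul : ∀ {p q : Fin 4 → F}, Flag v p q → ∀ μ : F, H.tw r (μ • p) = μ • p := by
    intro p q f μ
    rcases eq_or_ne μ 0 with rfl | hμ
    · rw [zero_smul, H.tw_zero hr]
    have h3 := cube_eq_one H.hF hμ
    refine (hfix (q := μ • q) ⟨f.hvv, ?_, ?_, ?_, ?_, ?_, fun y hy => ?_⟩).1
    · rw [smul_left H.hF, smul_right H.hF, f.hpp, mul_zero, mul_zero]
    · rw [smul_left H.hF, smul_right H.hF, f.hqq, mul_zero, mul_zero]
    · rw [smul_left H.hF, f.hpv, mul_zero]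
    · rw [smul_left H.hF, f.hqv, mul_zero]
    · rw [smul_left H.hF, smul_right H.hF, f.hpq, mul_one]
      linear_combination h3
    · obtain ⟨γ, hγ⟩ := f.decomp y hy
      refine ⟨γ, hγ.trans ?_⟩
      rw [smul_right H.hF, smul_right H.hF, smul_smul, smul_smul,
        show μ ^ 2 * hh y q * μ = hh y q by linear_combination hh y q * h3,
        show μ ^ 2 * hh y p * μ = hh y p by linear_combination hh y p * h3]
  have hH : ∀ y, hh y v = 0 → H.tw r y = y := by
    intro y hy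
    obtain ⟨γ, hγ⟩ := f.decomp y hy
    rw [hγ, H.tw_add hr, H.tw_add hr, (hfix f).2, hmul f, hmul (f.swap H.hF)]
  have hdich : ∀ y, H.tw r y = y ∨ H.tw r y = y + hh y v • v := by
    intro y
    obtain ⟨D, hD⟩ : ∃ D : F, H.tw r y + y = D • v := mem_span_of_trace H.hF fun h hh' => by
      have h1 := (H.tw_tr hr y h).trans Iff.rfl
      rw [hH h hh'] at h1
      rw [add_left H.hF]
      rcases eq_or_ne (hh (H.tw r y) h + hh (H.tw r y) h ^ 2) 0 with e | e
      · linear_combination e + h1.1 e + add_self H.hF (hh (H.tw r y) h * hh y h)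
      · have htr : ∀ x : F, x + x ^ 2 = 0 ∨ x + x ^ 2 = 1 := fun x => by
          rcases eq_or_ne x 0 with rfl | hx
          · left; ring
          · have h4 : x ^ 4 = x := by linear_combination x * cube_eq_one H.hF hx
            have h5 : (x + x ^ 2) * (x + x ^ 2 - 1) = 0 := by
              linear_combination h4 + add_self H.hF (x ^ 3)
            exact (mul_eq_zero.1 h5).imp_right sub_eq_zero.1
        have e1 := (htr _).resolve_left e
        have e2 := (htr _).resolve_left fun e' => e (h1.2 e')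
        linear_combination e1 + e2 + add_self H.hF (1 : F) + add_self H.hF (hh (H.tw r y) h * hh y h)
    have hy : H.tw r y = y + D • v := by rw [← hD, add_comm, add_assoc, vadd_self H.hF, add_zero]
    have hn := H.tw_norm hr y
    rw [hy] at hn ⊢
    rw [add_left H.hF, add_right H.hF, add_right H.hF, smul_left H.hF, smul_left H.hF, smul_right H.hF,
      smul_right H.hF, hvv, conj_form H.hF y v] at hn
    set a := hh y v with ha
    rcases eq_or_ne D 0 with rfl | hD0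
    · exact .inl (by rw [zero_smul, add_zero])
    rcases eq_or_ne a 0 with ha0 | ha0
    · exfalso
      have hy' : hh y v = 0 := ha0
      have h := hH y hy'
      rw [hy, add_eq_left] at h
      exact hD0 ((smul_eq_zero.1 h).resolve_right hv0)
    · right
      have h3 := cube_eq_one H.hF hD0
      have h4 := cube_eq_one H.hF ha0
      have h5 : (D * a ^ 2) * (D * a ^ 2 + 1) = 0 := by
        linear_combination (D * a ^ 2 + a * D ^ 2) * 0 + hn + (D ^ 2 * a) * h4
      have h6 : D * a ^ 2 = 1 := by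
        rcases mul_eq_zero.1 h5 with e | e
        · exact absurd e (mul_ne_zero hD0 (pow_ne_zero 2 ha0))
        · linear_combination e - add_self H.hF (1 : F)
      rw [show D = a by linear_combination a * h6 - D * h4]
  by_cases h1 : ∀ y, H.tw r y = y
  · exact .inl h1
  push Not at h1
  obtain ⟨y₁, hy₁⟩ := h1
  refine .inr fun y => ?_
  rcases hdich y with hy | hy
  · have e₁ := (hdich y₁).resolve_left hy₁
    rcases hdich (y + y₁) with e | e <;> rw [H.tw_add hr, hy, e₁] at e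
    · exact absurd (e₁.trans (add_left_cancel e)) hy₁
    · rw [hy, add_left H.hF, add_smul, ← add_assoc] at *
      have h7 : hh y v • v = 0 := by
        have := congrArg (fun x => x - (y + y₁ + hh y₁ v • v)) e
        simp only [sub_self] at this
        rw [this]
        abel
      rw [h7, add_zero]
  · exact hy

/-- Some element of the other frame in the part moves a point along the line of `s`. -/
theorem exists_shift : ∃ (p q : Fin 4 → F) (δ : F) (r : ↥H.C0), Flag (H.cv (g * z * g⁻¹)) p q ∧ δ ≠ 0 ∧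
    g⁻¹ * (r : G) * g ∈ H.J ∧ act (H.ρ0 r) q = q + δ • H.cv (g * z * g⁻¹) := by
  by_contra hno
  simp only [not_exists, not_and] at hno
  set v := H.cv (g * z * g⁻¹) with hv
  obtain ⟨hv0, hvv⟩ := H.isot hs hne
  have hh' := H.pairHyp hs hne
  -- so all of them fix the lines
  have hline : ∀ r : G, r ∈ Cz z → g⁻¹ * r * g ∈ H.J → ∀ p q, Flag v p q → ∃ a : F, H.tw r p = a • p := by
    intro r hr hr' p q f
    have hp : Isot 2 p := by simpa using f.shift_isot H.hF 0 (f.shift_ne H.hF 0)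
    have hrv : H.tw r v = v := H.fix_of_comm hs hne hr (H.frame_comm hs hne hr')
    obtain ⟨r₁, t, t', hr₁, ht, ht', hρ⟩ := H.exists_commutator hs hne hr hr' hp f.hpv
    set x := H.tw r p with hx
    have hc : Commute t' t := by
      have h2 := H.sq_one hs hne hr₁
      rw [hρ] at h2
      calc t' * t = (t' * t)⁻¹ := (inv_eq_of_mul_eq_one_left h2).symm
        _ = t * t' := by rw [mul_inv_rev, IsPt.inv_eq H.hF ht, IsPt.inv_eq H.hF ht']
    have hxp : hh x p = 0 := (IsPt.commute_iff H.hF ht' ht).1 hc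
    have hxv : hh x v = 0 := (comm_zero H.hF).1 (by
      rw [hx, ← hrv, H.tw_perp hr hp]; exact (comm_zero H.hF).1 f.hpv)
    obtain ⟨γ, hγ⟩ := f.decomp x hxv
    rw [hxp, zero_smul, add_zero] at hγ
    set c := hh x q with hc'
    rcases eq_or_ne c 0 with hc0 | hc0
    · exfalso
      rw [hc0, zero_smul, add_zero] at hγ
      have hγ0 : γ ≠ 0 := fun e => ht'.1.1 (by rw [hγ, e, zero_smul])
      obtain ⟨μ, hμ⟩ := H.tw_line hr hp γ⁻¹
      rw [← hx, hγ, smul_smul, inv_mul_cancel₀ hγ0, one_smul] at hμ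
      have h1 : μ • p = v := H.tw_inj hr (hμ.trans hrv.symm)
      have h2 := congrArg (fun y => hh y q) h1
      simp only [smul_left H.hF, f.hpq, (comm_zero H.hF).1 f.hqv, mul_one] at h2
      rw [h2, zero_smul] at h1
      exact hv0 h1.symm
    rcases eq_or_ne γ 0 with hγ0 | hγ0
    · exact ⟨c, by rw [hγ, hγ0, zero_smul, zero_add]⟩
    exfalso
    refine hno p q (c⁻¹ * γ) r₁ f (mul_ne_zero (inv_ne_zero hc0) hγ0) hr₁ ?_
    have ht'' : IsPt t' (p + (c⁻¹ * γ) • v) := by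
      have h1 := IsPt.smul H.hF ht' (inv_ne_zero hc0)
      rwa [hγ, smul_add, smul_smul, smul_smul, inv_mul_cancel₀ hc0, one_smul, add_comm] at h1
    rw [hρ, act_mul, ht.2, f.hqp H.hF, one_smul, ht''.2, add_left H.hF, add_right H.hF, add_right H.hF,
      smul_right H.hF, smul_right H.hF, f.hqp H.hF, f.hpp, f.hqv, f.hpv]
    simp only [mul_zero, add_zero, one_smul]
    rw [add_assoc, ← add_assoc p p, vadd_self H.hF, zero_add]
  -- the part of the other frame that lies in `J` is too large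
  obtain ⟨hb₀, -⟩ : g⁻¹ * z * g⁻¹⁻¹ ∈ H.J ∧ True :=
    ⟨by rw [inv_inv]; exact PairHyp.mem_map_iff.1 hh'.automizer.2, trivial⟩
  have hne' : g⁻¹ * z * g⁻¹⁻¹ ≠ z := fun e => hne (by
    rw [inv_inv] at e
    calc g * z * g⁻¹ = g * (g⁻¹ * z * g) * g⁻¹ := by rw [e]
      _ = z := by group)
  obtain ⟨p', q', f'⟩ := exists_flag H.hF (H.isot hb₀ hne')
  set v' := H.cv (g⁻¹ * z * g⁻¹⁻¹) with hv'
  let K : (Fin 4 → F) → Prop := fun x => ∃ a ∈ H.J, H.cv a = x ∧ g * a * g⁻¹ ∈ H.J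
  have hCz : ∀ a ∈ H.J, hh (H.cv a) v' = 0 → g * a * g⁻¹ ∈ Cz z ∧ g⁻¹ * (g * a * g⁻¹) * g ∈ H.J := by
    intro a ha hav
    have h1 := (H.cv_comm ha hb₀).1 (by rw [← hv', hav]; simp)
    rw [inv_inv] at h1
    refine ⟨Subgroup.mem_centralizer_singleton_iff.2 ?_, by
      rwa [show g⁻¹ * (g * a * g⁻¹) * g = a by group]⟩
    calc g * a * g⁻¹ * z = g * (a * (g⁻¹ * z * g)) * g⁻¹ := by group
      _ = _ := by rw [h1]; group
  have hout : ∀ x y, hh x v' = 0 → hh y v' = 0 → ¬ K x → ¬ K y → K (x + y) := by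
    intro x y hx hy hKx hKy
    obtain ⟨a, ha, rfl⟩ := H.cv_surj x
    obtain ⟨b, hb, rfl⟩ := H.cv_surj y
    obtain ⟨ca, fa⟩ := hCz a ha hx
    obtain ⟨cb, fb⟩ := hCz b hb hy
    have ta := (H.id_or_pt hs hne ca fa (hline _ ca fa)).resolve_left fun h =>
      hKx ⟨a, ha, rfl, H.mem_of_tw_id hs hne ca h⟩
    have tb := (H.id_or_pt hs hne cb fb (hline _ cb fb)).resolve_left fun h =>
      hKy ⟨b, hb, rfl, H.mem_of_tw_id hs hne cb h⟩
    refine ⟨a * b, mul_mem ha hb, H.cv_mul ha hb, ?_⟩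
    rw [show g * (a * b) * g⁻¹ = g * a * g⁻¹ * (g * b * g⁻¹) by group]
    refine H.mem_of_tw_id hs hne (mul_mem ca cb) fun u => ?_
    rw [← H.tw_tw ca cb, tb, ta, ← hv, add_left H.hF, smul_left H.hF, hvv, mul_zero, add_zero, add_assoc,
      vadd_self H.hF, add_zero]
  have hKK : ∀ x y, K x → K y → hh x y + hh x y ^ 2 = 0 := by
    rintro _ _ ⟨a, ha, rfl, ha'⟩ ⟨b, hb, rfl, hb'⟩
    refine (H.cv_comm ha hb).2 ?_
    have h := hh'.E_comm _ ⟨ha', PairHyp.mem_map_iff.2 (by rwa [show g⁻¹ * (g * a * g⁻¹) * g = a by group])⟩ _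
      ⟨hb', PairHyp.mem_map_iff.2 (by rwa [show g⁻¹ * (g * b * g⁻¹) * g = b by group])⟩
    calc a * b = g⁻¹ * ((g * a * g⁻¹) * (g * b * g⁻¹)) * g := by group
      _ = _ := by rw [h]; group
  obtain ⟨ω, hω0, hω⟩ := exists_omega' H.hF
  have hω3 := cube_eq_one H.hF hω0
  -- two orthogonal pairs on the hyperplane
  have key : ∀ a a' b : Fin 4 → F, hh a v' = 0 → hh a' v' = 0 → hh b v' = 0 → ¬ K a → ¬ K b →
      hh a a' + hh a a' ^ 2 = 1 → hh a a = 0 → hh b a + hh b a ^ 2 = 0 → hh b a' + hh b a' ^ 2 = 0 → False := by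
    intro a a' b ha ha' hb hKa hKb h1 h2 h3 h4
    have hk := hout a b ha hb hKa hKb
    by_cases hKa' : K a'
    · have h := hKK _ _ hk hKa'
      rw [add_left H.hF] at h
      exact one_ne_zero (show (1 : F) = 0 by
        linear_combination h - h1 - h4 - add_self H.hF (hh a a' * hh b a'))
    · have h := hKK _ _ hk (hout a' a ha' ha hKa' hKa)
      rw [add_left H.hF, add_right H.hF, add_right H.hF, h2, add_zero] at h
      exact one_ne_zero (show (1 : F) = 0 by
        linear_combination h - h1 - h3 - h4 - add_self H.hF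
          (hh a a' * hh b a' + hh a a' * hh b a + hh b a' * hh b a))
  have hpq := f'.hpq
  have hqp := f'.hqp H.hF
  have n1 : hh p' (ω • q') + hh p' (ω • q') ^ 2 = 1 := by
    rw [smul_right H.hF, hpq, mul_one]
    linear_combination hω + ω * hω3 - add_self H.hF (1 : F)
  have n2 : hh (ω • q') p' + hh (ω • q') p' ^ 2 = 1 := by
    rw [smul_left H.hF, hqp, mul_one]
    linear_combination hω - add_self H.hF (1 : F)
  have n3 : hh (ω • p') q' + hh (ω • p') q' ^ 2 = 1 := by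
    rw [smul_left H.hF, hpq, mul_one]
    linear_combination hω - add_self H.hF (1 : F)
  have hz1 : hh (ω • p') p' + hh (ω • p') p' ^ 2 = 0 := by rw [smul_left H.hF, f'.hpp, mul_zero]; simp
  have hz2 : hh (ω • p') (ω • q') + hh (ω • p') (ω • q') ^ 2 = 0 := by
    rw [smul_left H.hF, smul_right H.hF, hpq, mul_one, ← pow_succ', hω3]
    linear_combination add_self H.hF (1 : F)
  have hz3 : hh q' p' + hh q' p' ^ 2 = 0 := by rw [hqp]; linear_combination add_self H.hF (1 : F)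
  have hz4 : hh q' (ω • q') + hh q' (ω • q') ^ 2 = 0 := by rw [smul_right H.hF, f'.hqq, mul_zero]; simp
  have pA : hh (ω • q') v' = 0 := by rw [smul_left H.hF, f'.hqv, mul_zero]
  have pB : hh (ω • p') v' = 0 := by rw [smul_left H.hF, f'.hpv, mul_zero]
  have iA : hh (ω • q') (ω • q') = 0 := by rw [smul_left H.hF, smul_right H.hF, f'.hqq, mul_zero, mul_zero]
  have hB : ¬ K (ω • p') ∨ ¬ K q' := by
    by_contra h
    simp only [not_or, not_not] at h
    rw [hKK _ _ h.1 h.2] at n3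
    exact zero_ne_one n3
  by_cases hA : K p'
  · by_cases hA' : K (ω • q')
    · rw [hKK _ _ hA hA'] at n1
      exact zero_ne_one n1
    · rcases hB with hb | hb
      · exact key _ _ _ pA f'.hpv pB hA' hb n2 iA hz2 hz1
      · exact key _ _ _ pA f'.hpv f'.hqv hA' hb n2 iA hz4 hz3
  · rcases hB with hb | hb
    · exact key _ _ _ f'.hpv pA pB hA hb n1 f'.hpp hz1 hz2
    · exact key _ _ _ f'.hpv pA f'.hqv hA hb n1 f'.hpp hz3 hz4

/-- The line of the point of `s` lies inside. -/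
theorem meet_line (l : F) : H.Meet g (l • H.cv (g * z * g⁻¹)) := by
  obtain ⟨p, q, δ, r, f, hδ, hr, hrq⟩ := H.exists_shift hs hne
  have h := H.meet_in hs hne (H.le r.2) hr (x := (l * δ⁻¹) • q) (by rw [smul_left H.hF, f.hqv, mul_zero]; simp)
  rwa [H.tw_zero_one, act_smul, hrq, smul_add, smul_smul, inv_mul_cancel_right₀ hδ, add_comm, ← add_assoc,
    vadd_self H.hF, zero_add] at h

/-- The transvection at the point of `s` is covered by the other frame. -/
theorem exists_cover : ∃ r : ↥H.C0, g⁻¹ * (r : G) * g ∈ H.J ∧ IsPt (H.ρ0 r) (H.cv (g * z * g⁻¹)) := by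
  obtain ⟨p, q, δ, r, f, hδ, hr, hrq⟩ := H.exists_shift hs hne
  obtain ⟨hv0, hvv⟩ := H.isot hs hne
  have hrv := H.fix_of_comm hs hne (H.le r.2) (H.frame_comm hs hne hr)
  rw [H.tw_zero_one] at hrv
  set v := H.cv (g * z * g⁻¹) with hv
  obtain ⟨ω, hω0, hω⟩ := exists_omega' H.hF
  have f' := f.swap H.hF
  have hq : ∀ α : F, ∃ r₁ : ↥H.C0, g⁻¹ * (r₁ : G) * g ∈ H.J ∧ ∃ t t' : Cfsg.SU 4 F 2,
      IsPt t (q + α • v) ∧ IsPt t' (q + (δ + α) • v) ∧ H.ρ0 r₁ = t' * t := by
    intro α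
    obtain ⟨r₁, t, t', h1, ht, ht', hρ⟩ := H.exists_commutator hs hne (H.le r.2) hr
      (f'.shift_isot H.hF α (f'.shift_ne H.hF α)) (f'.shift_perp H.hF α)
    refine ⟨r₁, h1, t, t', ht, ?_, hρ⟩
    rwa [H.tw_zero_one, act_add, act_smul, hrq, hrv, add_assoc, ← add_smul] at ht'
  obtain ⟨r₁, h1, t₁, t₂, ht₁, ht₂, hρ₁⟩ := hq 0
  obtain ⟨r₂, h2, t₃, t₄, ht₃, ht₄, hρ₂⟩ := hq (ω * δ)
  refine ⟨r₁ * r₂, ?_, ⟨hv0, hvv⟩, fun y => ?_⟩
  · simp only [Subgroup.coe_mul]
    rw [show g⁻¹ * ((r₁ : G) * (r₂ : G)) * g = (g⁻¹ * (r₁ : G) * g) * (g⁻¹ * (r₂ : G) * g) by group]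
    exact mul_mem h1 h2
  have hvq : hh v q = 0 := (comm_zero H.hF).1 f.hqv
  rw [map_mul, hρ₁, hρ₂, act_mul, act_mul, act_mul, ht₁.2, ht₂.2, ht₃.2, ht₄.2]
  simp only [add_left H.hF, smul_left H.hF, add_right H.hF, smul_right H.hF, f.hqq, f.hqv, hvq, hvv, mul_zero,
    add_zero]
  funext i
  simp only [Pi.add_apply, Pi.smul_apply, smul_eq_mul]
  have hω3 := cube_eq_one H.hF hω0
  have hδ3 := cube_eq_one H.hF hδ
  have h2 : (2 : F) = 0 := by linear_combination add_self H.hF (1 : F)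
  grind

end

/-- No other conjugate of `z` lies in `J`. -/
theorem weak (g : G) (hs : g * z * g⁻¹ ∈ H.J) : g * z * g⁻¹ = z := by
  by_contra hne
  have hh' := H.pairHyp hs hne
  have hb₀ : g⁻¹ * z * g⁻¹⁻¹ ∈ H.J := by
    rw [inv_inv]; exact PairHyp.mem_map_iff.1 hh'.automizer.2
  have hne' : g⁻¹ * z * g⁻¹⁻¹ ≠ z := fun e => hne (by
    rw [inv_inv] at e
    calc g * z * g⁻¹ = g * (g⁻¹ * z * g) * g⁻¹ := by rw [e]
      _ = z := by group)
  obtain ⟨r, hr, hpt⟩ := H.exists_cover hs hne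
  set k := g⁻¹ * (r : G) * g with hk
  have hkc : k * (g⁻¹ * z * g⁻¹⁻¹) = g⁻¹ * z * g⁻¹⁻¹ * k := by
    rw [hk, inv_inv]
    calc g⁻¹ * (r : G) * g * (g⁻¹ * z * g) = g⁻¹ * ((r : G) * z) * g := by group
      _ = _ := by rw [Subgroup.mem_centralizer_singleton_iff.1 (H.le r.2)]; group
  -- the moves from the other side
  have hmoves : ∀ p, Isot 2 p → hh p (H.cv (g⁻¹ * z * g⁻¹⁻¹)) = 0 → H.Meet g⁻¹ (hh (H.cv k) p • p) := by
    intro p hp hpv
    obtain ⟨t, ht⟩ := exists_pt H.hF hp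
    obtain ⟨c', hc', hcs'⟩ := H.exists_lift hb₀ hne' (ht.act_of_perp ((comm_zero H.hF).1 hpv))
    have hC : g * (c' : G) * g⁻¹ ∈ Cz z := Subgroup.mem_centralizer_singleton_iff.2 (by
      calc g * (c' : G) * g⁻¹ * z = g * ((c' : G) * (g⁻¹ * z * g⁻¹⁻¹)) * g⁻¹ := by group
        _ = _ := by rw [hcs']; group)
    set c := g * (c' : G) * g⁻¹ with hc
    have hcs : c * (g * z * g⁻¹) = g * z * g⁻¹ * c := by
      calc c * (g * z * g⁻¹) = g * ((c' : G) * z) * g⁻¹ := by rw [hc]; group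
        _ = _ := by rw [Subgroup.mem_centralizer_singleton_iff.1 (H.le c'.2), hc]; group
    have hfix := H.fix_of_comm hs hne hC hcs
    have hcpt := H.tw_pt hC hpt
    rw [hfix] at hcpt
    have hkJ : c * (r : G) * c⁻¹ * (r : G)⁻¹ ∈ H.J := by
      have h1 : H.ρ0 (⟨c * r * c⁻¹, H.norm c hC r r.2⟩ * r⁻¹) = 1 := by
        rw [map_mul, map_inv, IsPt.unique H.hF hcpt hpt, mul_inv_cancel]
      exact H.ρ0_eq_one.1 h1
    refine ⟨(c' : G) * k * (c' : G)⁻¹ * k⁻¹, mul_mem (H.conj_mem (H.le c'.2) hr) (inv_mem hr), ?_, ?_⟩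
    · rw [inv_inv, hk]
      convert hkJ using 1
      rw [hc]
      group
    · rw [H.cv_mul (H.conj_mem (H.le c'.2) hr) (inv_mem hr), H.cv_inv hr, H.cv_conj0 c' hr, hc', ht.2, add_comm,
        ← add_assoc, vadd_self H.hF, zero_add]
  have hperp := H.perp_of_moves hb₀ hne' ((H.cv_comm hr hb₀).2 hkc) hmoves
  obtain ⟨p, q, f⟩ := exists_flag H.hF (H.isot hb₀ hne')
  obtain ⟨γ, hγ⟩ := f.decomp _ hperp
  have hpq : Isot 2 (p + q) := by
    refine ⟨fun e => ?_, by rw [add_left H.hF, add_right H.hF, add_right H.hF, f.hpp, f.hqq, f.hpq, f.hqp H.hF,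
      zero_add, add_zero, add_self H.hF]⟩
    have := congrArg (fun w => hh w q) e
    simp only [add_left H.hF, zero_left H.hF, f.hpq, f.hqq, add_zero] at this
    exact one_ne_zero this
  have f' := f.swap H.hF
  have hp : Isot 2 p := by simpa using f.shift_isot H.hF 0 (f.shift_ne H.hF 0)
  have hq : Isot 2 q := by simpa using f'.shift_isot H.hF 0 (f'.shift_ne H.hF 0)
  have hin := H.meet_add hb₀ hne' (H.meet_add hb₀ hne' (H.meet_line hb₀ hne' γ) (hmoves p hp f.hpv))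
    (H.meet_add hb₀ hne' (hmoves q hq f.hqv) (hmoves (p + q) hpq (by rw [add_left H.hF, f.hpv, f.hqv, add_zero])))
  have hsum : γ • H.cv (g⁻¹ * z * g⁻¹⁻¹) + hh (H.cv k) p • p +
      (hh (H.cv k) q • q + hh (H.cv k) (p + q) • (p + q)) = H.cv k := by
    conv_rhs => rw [hγ]
    rw [add_right H.hF]
    funext i
    simp only [Pi.add_apply, Pi.smul_apply, smul_eq_mul]
    linear_combination add_self H.hF (hh (H.cv k) p * p i) + add_self H.hF (hh (H.cv k) q * q i)
  rw [hsum] at hin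
  obtain ⟨k₀, hk₀, hk₀', hχ⟩ := hin
  rw [inv_inv] at hk₀'
  have hrJ : (r : G) ∈ H.J := by
    rw [show (r : G) = g * k * g⁻¹ by rw [hk]; group]
    rcases H.cv_eq hr hk₀ hχ.symm with e' | e' <;> rw [e']
    · exact hk₀'
    · rw [show g * (k₀ * z) * g⁻¹ = (g * k₀ * g⁻¹) * (g * z * g⁻¹) by group]
      exact mul_mem hk₀' hs
  rw [H.ρ0_eq_one.2 hrJ] at hpt
  exact IsPt.ne_one H.hF hpt rfl

end Half

end CfsgLib.USixOuter
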